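import Groth.Agent.HyperFEt.Complete
import Groth.Agent.S0801

/-! Full faithfulness of restriction to a hypersurface over a complete local ring. -/

set_option autoImplicit false
universe u

open CategoryTheory CategoryTheory.Limits AlgebraicGeometry

namespace Groth.Agent.HyperFEt

variable (A : Type u) [CommRing A] [IsLocalRing A] [IsNoetherianRing A] (f : A)

theorem exists_gens : ∃ (ι : Type u) (_ : Finite ι) (g : ι → A),
    Ideal.span (Set.range g) = IsLocalRing.maximalIdeal A := by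
  obtain ⟨s, hs⟩ := (IsLocalRing.maximalIdeal A).fg_of_isNoetherianRing
  exact ⟨↥(s : Set A), inferInstance, Subtype.val, by rw [Subtype.range_coe]; exact hs⟩

theorem descend_complete (hf : f ∈ IsLocalRing.maximalIdeal A)
    (h1 : ∃ n : ℕ, ∀ x : LocCoh.H (IsLocalRing.maximalIdeal A) 1 A, (f ^ n) • x = 0)
    (h2 : ∃ n : ℕ, ∀ x : LocCoh.H (IsLocalRing.maximalIdeal A) 2 A, (f ^ n) • x = 0)
    [IsAdicComplete (Ideal.span {f}) A] :
    FEtLib.MeetsClopens (r0 A f) ∧ FEtLib.ClopensDescend (r0 A f) := by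
  obtain ⟨ι, _, g, hg⟩ := exists_gens A
  have h := Groth.Agent.S0801.result A (IsLocalRing.maximalIdeal A) f hf A h1 h2
  rw [← hg] at h
  have hA : FormalBij g (φg A g) f := formalBij_self g (φg A g) f h
  exact ⟨meetsClopens A f g hg hA, clopensDescend A f g hg hA⟩

theorem fullyFaithful_complete (hf : f ∈ IsLocalRing.maximalIdeal A)
    (h1 : ∃ n : ℕ, ∀ x : LocCoh.H (IsLocalRing.maximalIdeal A) 1 A, (f ^ n) • x = 0)
    (h2 : ∃ n : ℕ, ∀ x : LocCoh.H (IsLocalRing.maximalIdeal A) 2 A, (f ^ n) • x = 0)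
    [IsAdicComplete (Ideal.span {f}) A] :
    (FEt.restrict (r0 A f)).Full ∧ (FEt.restrict (r0 A f)).Faithful :=
  have h := descend_complete A f hf h1 h2
  ⟨FEtLib.full _ h.1 h.2, FEtLib.faithful _ h.1⟩

end Groth.Agent.HyperFEt
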