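import Groth.Agent.HyperFEt.Extend
import Groth.Agent.FEtLib.Restrict

/-! Restriction of covers from a punctured spectrum to a hypersurface, complete case. -/

set_option autoImplicit false
set_option linter.style.haveILetI false
universe u

open CategoryTheory CategoryTheory.Limits AlgebraicGeometry TopologicalSpace

noncomputable section

namespace Groth.Agent.HyperFEt

variable (A : Type u) [CommRing A] [IsLocalRing A] (f : A)

/-- The closed immersion of the punctured spectrum of `A/fA`. -/
abbrev r0 : pullback (FEt.puncturedSpec A).ι (Spec.map (CommRingCat.ofHom (Ideal.Quotient.mk (Ideal.span {f})))) ⟶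
    (FEt.puncturedSpec A : Scheme.{u}) :=
  pullback.fst (FEt.puncturedSpec A).ι (Spec.map (CommRingCat.ofHom (Ideal.Quotient.mk (Ideal.span {f}))))

theorem range_r0 : Set.range (r0 A f) =
    (FEt.puncturedSpec A).ι ⁻¹' {q : PrimeSpectrum A | f ∈ q.asIdeal} := by
  rw [show r0 A f = pullback.fst _ _ from rfl, Scheme.Pullback.range_fst]
  refine congrArg _ ?_
  rw [show Set.range (Spec.map (CommRingCat.ofHom (Ideal.Quotient.mk (Ideal.span {f})))) =
    Set.range (PrimeSpectrum.comap (Ideal.Quotient.mk (Ideal.span {f}))) from rfl,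
    range_comap_of_surjective _ _ Ideal.Quotient.mk_surjective, Ideal.mk_ker, PrimeSpectrum.zeroLocus_span]
  exact Set.ext fun q => Set.singleton_subset_iff

theorem range_bcFst (W : FEt.Cat (FEt.puncturedSpec A : Scheme.{u})) :
    Set.range (FEtLib.bcFst (r0 A f) W) = {x | f ∈ ((FEt.puncturedSpec A).ι (W.hom x)).asIdeal} := by
  show Set.range (pullback.fst W.hom (r0 A f)) = _
  rw [Scheme.Pullback.range_fst, range_r0]
  rfl

theorem puncturedSpec_eq {ι : Type u} (g : ι → A) (hg : Ideal.span (Set.range g) = IsLocalRing.maximalIdeal A) :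
    (FEt.puncturedSpec A) = ⨆ j, PrimeSpectrum.basicOpen (g j) := by
  refine TopologicalSpace.Opens.ext (Set.ext fun q => ?_)
  refine Iff.trans ?_ TopologicalSpace.Opens.mem_iSup.symm
  refine ⟨fun hq => ?_, fun ⟨j, hj⟩ he => ?_⟩
  · by_contra hall
    refine hq (PrimeSpectrum.ext (le_antisymm (IsLocalRing.le_maximalIdeal q.2.ne_top) ?_))
    show IsLocalRing.maximalIdeal A ≤ _
    rw [← hg, Ideal.span_le]
    rintro _ ⟨j, rfl⟩
    by_contra hj
    exact hall ⟨j, hj⟩
  · rw [Set.mem_singleton_iff] at he
    subst he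
    exact hj (hg ▸ Ideal.subset_span ⟨j, rfl⟩ : g j ∈ IsLocalRing.maximalIdeal A)

theorem mem_puncturedSpec_iff {ι : Type u} (g : ι → A) (hg : Ideal.span (Set.range g) = IsLocalRing.maximalIdeal A)
    {B : Type u} [CommRing B] [Algebra A B] (q : PrimeSpectrum B) :
    PrimeSpectrum.comap (algebraMap A B) q ∈ FEt.puncturedSpec A ↔ q ∈ XB B g := by
  rw [puncturedSpec_eq A g hg]
  exact TopologicalSpace.Opens.mem_iSup

theorem meetsClopens {ι : Type u} (g : ι → A) (hg : Ideal.span (Set.range g) = IsLocalRing.maximalIdeal A)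
    (hA : FormalBij g (φg A g) f) : FEtLib.MeetsClopens (r0 A f) := by
  intro S hS ⟨x, hx⟩
  by_contra hcon
  push Not at hcon
  let i := (FEt.puncturedSpec A).ι
  have hio := i.isOpenEmbedding
  have hmem : ∀ q : PrimeSpectrum A, q ∈ XB A g → ∃ x, i x = q := fun q hq => by
    have hq' : q ∈ FEt.puncturedSpec A := by
      have := (mem_puncturedSpec_iff A g hg q).2 hq
      rwa [Algebra.algebraMap_self, PrimeSpectrum.comap_id] at this
    exact ⟨⟨q, hq'⟩, rfl⟩
  have h := eq_empty_of_disjoint g f hA (i '' S) (i '' Sᶜ) (hio.isOpenMap _ hS.2) (hio.isOpenMap _ hS.compl.2)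
    (fun q hq => by
      obtain ⟨z, rfl⟩ := hmem q hq
      exact (hio.injective.mem_set_image (s := S)).trans
        (not_not.symm.trans (not_congr (hio.injective.mem_set_image (s := Sᶜ) (a := z))).symm))
    (fun q hq hf => by
      obtain ⟨z, rfl⟩ := hmem q hq
      obtain ⟨z', hz'⟩ := (range_r0 A f).ge (show z ∈ i ⁻¹' {q : PrimeSpectrum A | f ∈ q.asIdeal} from hf)
      exact fun hz => hcon z' (hz' ▸ hio.injective.mem_set_image.1 hz))
  refine h (i x) ?_ ⟨x, hx, rfl⟩
  exact (mem_puncturedSpec_iff A g hg (i x)).1 (by rw [Algebra.algebraMap_self, PrimeSpectrum.comap_id]; exact x.2)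

/-- The cover of a punctured spectrum inside the spectrum of a finite algebra, locally free on it. -/
theorem exists_model [IsNoetherianRing A] {ι : Type u} [Finite ι] (g : ι → A)
    (hg : Ideal.span (Set.range g) = IsLocalRing.maximalIdeal A) (W : FEt.Cat (FEt.puncturedSpec A : Scheme.{u})) :
    ∃ (B : Type u) (_ : CommRing B) (_ : Algebra A B) (_ : Module.Finite A B) (j : W.left → PrimeSpectrum B),
      Topology.IsOpenEmbedding j ∧ Set.range j = XB B g ∧
      (∀ x, PrimeSpectrum.comap (algebraMap A B) (j x) = (FEt.puncturedSpec A).ι (W.hom x)) ∧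
      ∀ i, Module.Projective (Localization.Away (g i)) (LocalizedModule (Submonoid.powers (g i)) B) := by
  haveI : IsFinite W.hom := W.prop.1
  haveI : AlgebraicGeometry.Etale W.hom := W.prop.2
  obtain ⟨B, φ, j, hfin, hj, hrange, hcomp⟩ := exists_extension A g _ (puncturedSpec_eq A g hg) W.hom
  letI : Algebra A B := φ.hom.toAlgebra
  haveI : Module.Finite A B := hfin
  refine ⟨B, inferInstance, inferInstance, hfin, j, j.isOpenEmbedding, ?_, fun x => ?_, fun i => ?_⟩
  · exact hrange.trans (Set.ext fun q => mem_puncturedSpec_iff A g hg q)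
  · show Spec.map φ (j x) = _
    rw [← Scheme.Hom.comp_apply, hcomp]
    rfl
  · let Bb := Localization.Away (algebraMap A B (g i))
    let σ : Spec (CommRingCat.of Bb) ⟶ Spec B := Spec.map (CommRingCat.ofHom (algebraMap B Bb))
    haveI : IsOpenImmersion σ := IsOpenImmersion.of_isLocalization (algebraMap A B (g i))
    have hσ : Set.range σ ⊆ Set.range j := by
      rw [hrange]
      rintro _ ⟨p, rfl⟩
      exact (mem_puncturedSpec_iff A g hg _).2 ⟨i, fun hc => p.2.ne_top (Ideal.eq_top_of_isUnit_mem _ hc
        (IsLocalization.Away.algebraMap_isUnit (algebraMap A B (g i))))⟩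
    let τ : Spec (CommRingCat.of Bb) ⟶ W.left := IsOpenImmersion.lift j σ hσ
    have hτ : τ ≫ j = σ := IsOpenImmersion.lift_fac _ _ _
    haveI : IsOpenImmersion (τ ≫ j) := hτ ▸ inferInstance
    haveI : IsOpenImmersion τ := IsOpenImmersion.of_comp τ j
    haveI : Flat (τ ≫ W.hom ≫ (FEt.puncturedSpec A).ι) := inferInstance
    have hflat : Flat (Spec.map (φ ≫ CommRingCat.ofHom (algebraMap B Bb))) := by
      rw [Spec.map_comp]
      show Flat (σ ≫ Spec.map φ)
      rw [← hτ, Category.assoc, hcomp]
      infer_instance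
    haveI : Module.Flat A Bb := by
      have h2 := HasRingHomProperty.Spec_iff.1 hflat
      exact RingHom.flat_algebraMap_iff.1 h2
    haveI : Module.Flat A (LocalizedModule (Submonoid.powers (g i)) B) :=
      Module.Flat.of_linearEquiv (IsLocalizedModule.iso (Submonoid.powers (g i)) (φg B g i))
    haveI : Module.Flat (Localization.Away (g i)) (LocalizedModule (Submonoid.powers (g i)) B) :=
      (Module.flat_iff_of_isLocalization (Localization.Away (g i)) (Submonoid.powers (g i)) _).2 inferInstance
    haveI : Module.Finite (Localization.Away (g i)) (LocalizedModule (Submonoid.powers (g i)) B) :=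
      Module.Finite.of_isLocalizedModule (Submonoid.powers (g i)) (LocalizedModule.mkLinearMap _ _)
    haveI : IsNoetherianRing (Localization.Away (g i)) :=
      IsLocalization.isNoetherianRing (Submonoid.powers (g i)) _ inferInstance
    haveI := Module.finitePresentation_of_finite (Localization.Away (g i)) (LocalizedModule (Submonoid.powers (g i)) B)
    exact Module.Flat.projective_of_finitePresentation

/-- The same bijectivity for the algebra of a cover. -/
theorem formalBij_algebra [IsNoetherianRing A] {ι : Type u} (g : ι → A) (hA : FormalBij g (φg A g) f)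
    (B : Type u) [CommRing B] [Algebra A B] [Module.Finite A B]
    (hP : ∀ i, Module.Projective (Localization.Away (g i)) (LocalizedModule (Submonoid.powers (g i)) B)) :
    FormalBij g (φg B g) f := by
  haveI := Module.finitePresentation_of_finite A B
  choose N k α β h using fun i => exists_retract B (g i) (hP i)
  exact formalBij_of_retract g (φg B g) (φg A g) f hA N k α β h

theorem clopensDescend [IsNoetherianRing A] {ι : Type u} [Finite ι] (g : ι → A)
    (hg : Ideal.span (Set.range g) = IsLocalRing.maximalIdeal A) (hA : FormalBij g (φg A g) f) :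
    FEtLib.ClopensDescend (r0 A f) := by
  intro W V hV
  obtain ⟨B, _, _, _, j, hj, hjrange, hjcomp, hP⟩ := exists_model A g hg W
  let p := FEtLib.bcFst (r0 A f) W
  haveI : IsClosedImmersion (Spec.map (CommRingCat.ofHom (Ideal.Quotient.mk (Ideal.span {f})))) :=
    IsClosedImmersion.spec_of_surjective _ Ideal.Quotient.mk_surjective
  haveI : IsClosedImmersion (r0 A f) :=
    MorphismProperty.pullback_fst (P := @IsClosedImmersion) _ _ inferInstance
  haveI : IsClosedImmersion p := MorphismProperty.pullback_fst (P := @IsClosedImmersion) _ _ inferInstance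
  let O := j '' (p '' Vᶜ)ᶜ
  let O' := j '' (p '' V)ᶜ
  have hO : IsOpen O := hj.isOpenMap _ (p.isClosedEmbedding.isClosedMap _ hV.compl.1).isOpen_compl
  have hO' : IsOpen O' := hj.isOpenMap _ (p.isClosedEmbedding.isClosedMap _ hV.1).isOpen_compl
  have hfib : ∀ x, algebraMap A B f ∈ (j x).asIdeal → x ∈ Set.range p := fun x hx => by
    refine (range_bcFst A f W).ge ?_
    show f ∈ ((FEt.puncturedSpec A).ι (W.hom x)).asIdeal
    rw [← hjcomp]; exact hx
  have hcov : ∀ q ∈ XB B g, algebraMap A B f ∈ q.asIdeal → (q ∈ O ↔ q ∉ O') := fun q hq hf => by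
    obtain ⟨x, rfl⟩ := hjrange.ge hq
    obtain ⟨z, rfl⟩ := hfib x hf
    simp only [O, O', hj.injective.mem_set_image, Set.mem_compl_iff,
      p.isClosedEmbedding.injective.mem_set_image]
  obtain ⟨S, S', hS, hS', hpart, hSO⟩ := exists_lift g f (formalBij_algebra A f g hA B hP) O O' hO hO' hcov
  have hX : ∀ x, j x ∈ XB B g := fun x => hjrange.le ⟨x, rfl⟩
  refine ⟨j ⁻¹' S, ⟨?_, hS.preimage hj.continuous⟩, ?_⟩
  · rw [show j ⁻¹' S = (j ⁻¹' S')ᶜ from Set.ext fun x => hpart _ (hX x)]
    exact (hS'.preimage hj.continuous).isClosed_compl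
  · ext z
    have hf : algebraMap A B f ∈ (j (p z)).asIdeal := by
      have h2 : f ∈ ((FEt.puncturedSpec A).ι (W.hom (p z))).asIdeal := (range_bcFst A f W).le ⟨z, rfl⟩
      rw [← hjcomp] at h2
      exact h2
    show j (p z) ∈ S ↔ z ∈ V
    rw [hSO _ (hX _) hf]
    simp only [O, hj.injective.mem_set_image, Set.mem_compl_iff,
      p.isClosedEmbedding.injective.mem_set_image, not_not]

end Groth.Agent.HyperFEt
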