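import Groth.Agent.FEtLib.Clopens
import Groth.Agent.PurePairDesc.Main

/-! Clopen sets, idempotent functions and restriction of covers. -/

set_option autoImplicit false
set_option backward.isDefEq.respectTransparency false
set_option backward.isDefEq.respectTransparency.types false
set_option linter.style.haveILetI false
universe u

open CategoryTheory CategoryTheory.Limits AlgebraicGeometry TopologicalSpace

noncomputable section

namespace Groth.Agent.HyperFEt

open FEtLib

/-- Faithful base change meets every nonempty clopen. -/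
theorem meetsClopens_of_faithful {X X' : Scheme.{u}} (r : X' ⟶ X) [(FEt.restrict r).Faithful] :
    MeetsClopens r := by
  classical
  intro U hU ⟨x, hx⟩
  by_contra hcon
  push Not at hcon
  let R := FEt.restrict r
  let V : Bool → (one X).left.Opens := fun b => if b then ⟨U, hU.2⟩ else ⟨Uᶜ, hU.1.isOpen_compl⟩
  have hc : ∀ b, IsClosed (V b : Set (one X).left) := fun b => by
    cases b
    · exact hU.2.isClosed_compl
    · exact hU.1
  have hmem : ∀ (b : Bool) (y : X), y ∈ V b ↔ (y ∈ U ↔ b = true) := fun b y => by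
    cases b
    · exact ⟨fun h => iff_of_false h (by decide), fun h hy => absurd (h.1 hy) (by decide)⟩
    · exact ⟨fun h => iff_of_true h rfl, fun h => h.2 rfl⟩
  let side : Bool → (one X ⟶ sum (one X) (one X)) := fun b => if b then sumr _ _ else suml _ _
  obtain ⟨χ, hχ⟩ := exists_of_partition V hc
    (fun i j y hi hj => Bool.eq_iff_iff.2 (((hmem i y).1 hi).symm.trans ((hmem j y).1 hj)))
    (fun y => ⟨decide (y ∈ U), (hmem _ y).2 decide_eq_true_iff.symm⟩)
    (fun b => clopenPartι (one X) (V b) (hc b) ≫ side b)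
  have hχp : ∀ (K : Type u) [Field K] [IsAlgClosed K] (ξ : Spec (CommRingCat.of K) ⟶ X) (a : Fib ξ (one X)),
      pmap χ a = pmap (side (decide (center a ∈ U))) a := by
    intro K _ _ ξ a
    obtain ⟨a', ha'⟩ := exists_lift_clopenPart (V (decide (center a ∈ U))) (hc _) a
      ((hmem _ _).2 decide_eq_true_iff.symm)
    generalize decide (center a ∈ U) = b at a' ha' ⊢
    rw [← ha', ← pmap_comp, hχ, pmap_comp]
  have heq : R.map χ = R.map (suml _ _) := FEtLib.hom_ext fun K _ _ ξ a => by
    apply (bcEquiv r).injective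
    rw [bcEquiv_pmap, bcEquiv_pmap, hχp]
    have hn : center (bcEquiv r a) ∉ U := by
      rw [bcEquiv_center]
      have hw : (bcFst r (one X)) (center a) = r (pullback.snd (one X).hom r (center a)) :=
        congr($(pullback.condition (f := (one X).hom) (g := r)) (center a))
      rw [hw]
      exact hcon _
    simp [side, hn]
  obtain ⟨K, _, _, ξ, a, hax⟩ := exists_point (Y := one X) x
  have h1 := hχp K ξ a
  rw [R.map_injective heq, decide_eq_true (show center a ∈ U by rw [hax]; exact hx)] at h1
  exact pmap_suml_ne_sumr _ _ h1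

/-- Full faithfulness of base change is invariant under isomorphisms. -/
theorem fullyFaithful_of_comm {X X' Y Y' : Scheme.{u}} {r : X' ⟶ X} {r' : Y' ⟶ Y} (e₁ : Y' ⟶ X') (e₂ : Y ⟶ X)
    [IsIso e₁] [IsIso e₂] (h : e₁ ≫ r = r' ≫ e₂) (hr : (FEt.restrict r).Full ∧ (FEt.restrict r).Faithful) :
    (FEt.restrict r').Full ∧ (FEt.restrict r').Faithful := by
  haveI := hr.1
  haveI := hr.2
  haveI := PurePairDesc.isEquivalence_restrict_of_isIso e₁
  haveI := PurePairDesc.isEquivalence_restrict_of_isIso (inv e₂)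
  have i : FEt.restrict r' ≅ FEt.restrict (inv e₂) ⋙ FEt.restrict r ⋙ FEt.restrict e₁ :=
    eqToIso (congrArg FEt.restrict (show r' = (e₁ ≫ r) ≫ inv e₂ by rw [h, Category.assoc, IsIso.hom_inv_id,
      Category.comp_id])) ≪≫ MorphismProperty.Over.pullbackComp (e₁ ≫ r) (inv e₂) ≪≫
      Functor.isoWhiskerLeft (FEt.restrict (inv e₂)) (MorphismProperty.Over.pullbackComp e₁ r)
  exact ⟨Functor.Full.of_iso i.symm, Functor.Faithful.of_iso i.symm⟩

/-- A clopen subset carries an idempotent function. -/
theorem exists_idem_of_clopen {Z : Scheme.{u}} {S : Set Z} (hS : IsClopen S) :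
    ∃ e : Γ(Z, ⊤), IsIdempotentElem e ∧ ∀ x, x ∈ Z.basicOpen e ↔ x ∈ S := by
  let V : Bool → Z.Opens := fun b => if b then ⟨S, hS.isOpen⟩ else ⟨Sᶜ, hS.isClosed.isOpen_compl⟩
  let sf : ∀ b, Γ(Z, V b) := fun b => if b then 1 else 0
  have hempty : ∀ W : Z.Opens, W ≤ V true ⊓ V false → Subsingleton Γ(Z, W) := fun W hW => by
    have : W = ⊥ := eq_bot_iff.2 fun x hx => absurd (hW hx).1 (hW hx).2
    subst this
    exact CommRingCat.subsingleton_of_isTerminal (Z.sheaf.isTerminalOfEmpty)
  have hcomp : TopCat.Presheaf.IsCompatible Z.sheaf.1 V sf := fun i j => by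
    cases i <;> cases j
    · rfl
    · exact @Subsingleton.elim _ (hempty _ (by rw [inf_comm])) _ _
    · exact @Subsingleton.elim _ (hempty _ le_rfl) _ _
    · rfl
  have hcov : (⊤ : Z.Opens) ≤ iSup V := fun x _ => by
    by_cases hx : x ∈ S
    · exact Opens.mem_iSup.2 ⟨true, hx⟩
    · exact Opens.mem_iSup.2 ⟨false, hx⟩
  obtain ⟨e, he, -⟩ := Z.sheaf.existsUnique_gluing' V ⊤ (fun i => homOfLE le_top) hcov sf hcomp
  have hg : ∀ x : Z, (x ∈ S → Z.presheaf.germ ⊤ x trivial e = 1) ∧ (x ∉ S → Z.presheaf.germ ⊤ x trivial e = 0) :=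
    fun x => ⟨fun hx => by
      have := congrArg (Z.presheaf.germ (V true) x hx) (he true)
      change Z.presheaf.germ (V true) x hx (Z.presheaf.map _ e) = _ at this
      rw [TopCat.Presheaf.germ_res_apply] at this
      exact this.trans (map_one (Z.presheaf.germ (V true) x hx).hom), fun hx => by
      have := congrArg (Z.presheaf.germ (V false) x hx) (he false)
      change Z.presheaf.germ (V false) x hx (Z.presheaf.map _ e) = _ at this
      rw [TopCat.Presheaf.germ_res_apply] at this
      exact this.trans (map_zero (Z.presheaf.germ (V false) x hx).hom)⟩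
  refine ⟨e, TopCat.Presheaf.section_ext Z.sheaf ⊤ (e * e) e fun x _ => ?_, fun x => ?_⟩
  · show Z.presheaf.germ ⊤ x trivial (e * e) = Z.presheaf.germ ⊤ x trivial e
    refine (map_mul (Z.presheaf.germ ⊤ x trivial).hom e e).trans ?_
    by_cases hx : x ∈ S
    · exact (congrArg₂ (· * ·) ((hg x).1 hx) ((hg x).1 hx)).trans ((one_mul 1).trans ((hg x).1 hx).symm)
    · exact (congrArg₂ (· * ·) ((hg x).2 hx) ((hg x).2 hx)).trans ((zero_mul 0).trans ((hg x).2 hx).symm)
  · rw [Z.mem_basicOpen e x trivial]
    by_cases hx : x ∈ S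
    · rw [(hg x).1 hx]
      exact iff_of_true isUnit_one hx
    · rw [(hg x).2 hx]
      exact iff_of_false not_isUnit_zero hx

end Groth.Agent.HyperFEt
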