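import Groth.Agent.FaltingsAnnLib.Main
import Groth.Agent.CatLib.Basic
import Groth.Agent.FlatDepth.Fibres

/-! Torsion of local cohomology from a dualizing complex. -/

set_option autoImplicit false
set_option linter.style.haveILetI false
set_option backward.isDefEq.respectTransparency false

universe u

open CategoryTheory
attribute [local instance] HasDerivedCategory.standard

namespace Groth.Agent.HyperFEt

open FaltingsAnnLib DualCxLib

theorem le_depth_of_not_mem (A : Type u) [CommRing A] [IsNoetherianRing A] (f : A)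
    (h : LocCoh.HasSk 2 (Localization.Away f) (Localization.Away f)) (p : Ideal A) [p.IsPrime] (hfp : f ∉ p) :
    min (2 : WithBot ℕ∞) (p.height : WithBot ℕ∞) ≤
      ((LocCoh.depth (Localization.AtPrime p) (Localization.AtPrime p) : ℕ∞) : WithBot ℕ∞) := by
  let P : Ideal (Localization.Away f) := p.map (algebraMap A (Localization.Away f))
  have hd : Disjoint (Submonoid.powers f : Set A) (p : Set A) :=
    Set.disjoint_left.2 fun _ ⟨n, hn⟩ hx => hfp (Ideal.IsPrime.mem_of_pow_mem ‹_› n (by subst hn; exact hx))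
  haveI : P.IsPrime := IsLocalization.isPrime_of_isPrime_disjoint (Submonoid.powers f) _ p ‹_› hd
  have hc : P.comap (algebraMap A (Localization.Away f)) = p :=
    IsLocalization.comap_map_of_isPrime_disjoint (Submonoid.powers f) (Localization.Away f) ‹_› hd
  obtain ⟨_, hs⟩ := (FlatDepth.hasSk_iff 2 (Localization.Away f)).1 h P
  haveI : (P.comap (algebraMap A (Localization.Away f))).IsPrime := Ideal.IsPrime.comap _
  let e := (IsLocalization.algEquiv (P.comap (algebraMap A (Localization.Away f))).primeCompl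
    (Localization.AtPrime (P.comap (algebraMap A (Localization.Away f)))) (Localization.AtPrime P)).toRingEquiv
  rw [← ringKrullDim_eq_of_ringEquiv e, FlatDepth.depth_eq_of_ringEquiv e,
    IsLocalization.AtPrime.ringKrullDim_eq_height (P.comap (algebraMap A (Localization.Away f)))
      (Localization.AtPrime (P.comap (algebraMap A (Localization.Away f))))] at hs
  have key : ∀ (q : Ideal A) [q.IsPrime], q = p →
      min (2 : WithBot ℕ∞) (q.height : WithBot ℕ∞) ≤
        ((LocCoh.depth (Localization.AtPrime q) (Localization.AtPrime q) : ℕ∞) : WithBot ℕ∞) →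
      min (2 : WithBot ℕ∞) (p.height : WithBot ℕ∞) ≤
        ((LocCoh.depth (Localization.AtPrime p) (Localization.AtPrime p) : ℕ∞) : WithBot ℕ∞) := by
    intro q _ hq hh
    subst hq
    exact hh
  exact key _ hc hs

theorem krullDim_Icc_closedPoint (A : Type u) [CommRing A] [IsLocalRing A] (p : PrimeSpectrum A) :
    Order.krullDim (Set.Icc p (IsLocalRing.closedPoint A)) = ringKrullDim (A ⧸ p.asIdeal) := by
  have hset : Set.Icc p (IsLocalRing.closedPoint A) = Set.Ici p := Set.ext fun r =>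
    ⟨fun h => h.1, fun h => ⟨h, show r.asIdeal ≤ IsLocalRing.maximalIdeal A from IsLocalRing.le_maximalIdeal r.2.ne_top⟩⟩
  rw [hset, CatLib.ringKrullDim_quotient_eq_coheight, Order.coheight_eq_krullDim_Ici]

theorem depth_add_dim_gt (A : Type u) [CommRing A] [IsNoetherianRing A] [IsLocalRing A] (f : A)
    (hf : f ∈ IsLocalRing.maximalIdeal A) (hd : ∃ ω : Dual.D A, Dual.IsDualizing A ω)
    (hS : LocCoh.HasSk 2 (Localization.Away f) (Localization.Away f))
    (hdim : ∀ p : Ideal A, p ∈ minimalPrimes A → f ∉ p → (3 : WithBot ℕ∞) ≤ ringKrullDim (A ⧸ p))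
    (p : Ideal A) [p.IsPrime] (hfp : f ∉ p) :
    (2 : WithBot ℕ∞) < (LocCoh.depth (Localization.AtPrime p) (Localization.AtPrime p) : WithBot ℕ∞) +
      ringKrullDim (A ⧸ p) := by
  obtain ⟨ω, hω⟩ := hd
  obtain ⟨p0, hp0, hle⟩ := Ideal.exists_minimalPrimes_le (bot_le : (⊥ : Ideal A) ≤ p)
  let m := IsLocalRing.closedPoint A
  let P : PrimeSpectrum A := ⟨p, ‹_›⟩
  let Q : PrimeSpectrum A := ⟨p0, hp0.1.1⟩
  have hQP : Q ≤ P := hle
  have hPm : P ≤ m := show p ≤ IsLocalRing.maximalIdeal A from IsLocalRing.le_maximalIdeal P.2.ne_top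
  have hPne : P ≠ m := fun h => hfp (by rw [show p = IsLocalRing.maximalIdeal A from congrArg PrimeSpectrum.asIdeal h]; exact hf)
  have hP : ringKrullDim (A ⧸ p) = (((dfn hω m - dfn hω P).toNat : ℕ) : WithBot ℕ∞) := by
    rw [← krullDim_Icc_closedPoint A P, krullDim_Icc_eq hω hPm]
  have hQ : ringKrullDim (A ⧸ p0) = (((dfn hω m - dfn hω Q).toNat : ℕ) : WithBot ℕ∞) := by
    rw [← krullDim_Icc_closedPoint A Q, krullDim_Icc_eq hω (hQP.trans hPm)]
  have hQ3 : 3 ≤ (dfn hω m - dfn hω Q).toNat := by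
    have h3 := hdim p0 hp0 (fun h => hfp (hle h))
    rw [hQ] at h3
    exact_mod_cast h3
  have hP1 : 1 ≤ (dfn hω m - dfn hω P).toNat := by
    have h1 : (1 : WithBot ℕ∞) ≤ Order.krullDim (Set.Icc P m) :=
      le_of_eq_of_le (by norm_num) (Order.LTSeries.length_le_krullDim
        ({ length := 1
           toFun := ![⟨P, le_rfl, hPm⟩, ⟨m, hPm, le_rfl⟩]
           step := fun i => by
             obtain rfl : i = 0 := Subsingleton.elim _ _
             exact lt_of_le_of_ne hPm hPne } : LTSeries (Set.Icc P m)))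
    rw [krullDim_Icc_eq hω hPm] at h1
    exact_mod_cast h1
  have hgap : ((dfn hω P - dfn hω Q).toNat : ℕ∞) ≤ p.height := by
    rw [← height_Ici_eq hω hQP]
    refine (Order.height_le_height_apply_of_strictMono (fun r : Set.Ici Q => r.1)
      (Subtype.strictMono_coe _) _).trans ?_
    exact le_of_eq (PrimeSpectrum.height_eq_orderHeight P).symm
  have h1 := DualCxLib.dfn_le hω hQP
  have h2 := DualCxLib.dfn_le hω hPm
  have hk := le_depth_of_not_mem A f hS p hfp
  rw [hP]
  generalize LocCoh.depth (Localization.AtPrime p) (Localization.AtPrime p) = D at hk ⊢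
  have hk' : min (2 : ℕ∞) p.height ≤ D := by
    rw [← WithBot.coe_le_coe (α := ℕ∞), WithBot.coe_min]
    exact hk
  have hD : ∀ c : ℕ, (c : ℕ∞) ≤ D → 2 < c + (dfn hω m - dfn hω P).toNat →
      (2 : WithBot ℕ∞) < (D : WithBot ℕ∞) + (((dfn hω m - dfn hω P).toNat : ℕ) : WithBot ℕ∞) := by
    intro c hc h
    refine lt_of_lt_of_le (b := (((c + (dfn hω m - dfn hω P).toNat : ℕ) : ℕ∞) : WithBot ℕ∞)) ?_ ?_
    · exact WithBot.coe_lt_coe.2 (Nat.cast_lt.2 h : ((2 : ℕ) : ℕ∞) < _)
    · rw [Nat.cast_add, WithBot.coe_add]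
      exact add_le_add (WithBot.coe_le_coe.2 hc) le_rfl
  rcases le_or_gt (2 : ℕ∞) p.height with h2h | h2h
  · exact hD 2 (by rw [min_eq_left h2h] at hk'; exact_mod_cast hk') (by omega)
  · rw [min_eq_right h2h.le] at hk'
    refine hD (dfn hω P - dfn hω Q).toNat (hgap.trans hk') ?_
    have : (dfn hω P - dfn hω Q).toNat ≤ 1 := by
      have := hgap.trans_lt h2h
      have h' : (dfn hω P - dfn hω Q).toNat < 2 := by exact_mod_cast this
      omega
    omega

theorem torsion_of_dualizing (A : Type u) [CommRing A] [IsNoetherianRing A] [IsLocalRing A] (f : A)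
    (hf : f ∈ IsLocalRing.maximalIdeal A) (hd : ∃ ω : Dual.D A, Dual.IsDualizing A ω)
    (hc : ((LocCoh.HasSk 2 (Localization.Away f) (Localization.Away f) ∧
        ∀ p : Ideal A, p ∈ minimalPrimes A → f ∉ p → (3 : WithBot ℕ∞) ≤ ringKrullDim (A ⧸ p)) ∨
      (∀ p : Ideal A, ∀ _ : p.IsPrime, f ∉ p →
        (2 : WithBot ℕ∞) < (LocCoh.depth (Localization.AtPrime p) (Localization.AtPrime p) : WithBot ℕ∞) + ringKrullDim (A ⧸ p)))) :
    ∀ i ≤ 2, ∃ n : ℕ, ∀ x : LocCoh.H (IsLocalRing.maximalIdeal A) i A, (f ^ n) • x = 0 := by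
  have hc' : ∀ p : Ideal A, ∀ _ : p.IsPrime, f ∉ p →
      (2 : WithBot ℕ∞) < (LocCoh.depth (Localization.AtPrime p) (Localization.AtPrime p) : WithBot ℕ∞) + ringKrullDim (A ⧸ p) := by
    rcases hc with ⟨hS, hdim⟩ | hc
    · intro p _ hfp
      exact depth_add_dim_gt A f hf hd hS hdim p hfp
    · exact hc
  obtain ⟨S, hS⟩ := exists_injRep_eq (Dual.inD A A) 0
  obtain ⟨J, hJ, hk⟩ := (annihilator_module (PrimeSpectrum.zeroLocus (IsLocalRing.maximalIdeal A : Set A)) hd
    (T' := PrimeSpectrum.zeroLocus {f}) (PrimeSpectrum.isClosed_zeroLocus _).stableUnderSpecialization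
    (PrimeSpectrum.isClosed_zeroLocus _).stableUnderSpecialization 2 A S hS).2 fun p q hp hq hpq => by
      have hq' : q = IsLocalRing.closedPoint A := PrimeSpectrum.ext
        (le_antisymm (IsLocalRing.le_maximalIdeal q.2.ne_top) ((PrimeSpectrum.mem_zeroLocus _ _).1 hq))
      subst hq'
      rw [krullDim_Icc_closedPoint, Depth.depth_localizedSelf]
      exact hc' p.asIdeal p.2 fun hfp => hp (Set.singleton_subset_iff.2 hfp)
  obtain ⟨n, hn⟩ : f ∈ J.radical := by
    rw [← PrimeSpectrum.vanishingIdeal_zeroLocus_eq_radical]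
    exact (PrimeSpectrum.mem_vanishingIdeal _ _).2 fun x hx => Set.singleton_subset_iff.1 (hJ hx)
  exact fun i hi => ⟨n, (killT_iff_equiv (exists_H_equiv S (IsLocalRing.maximalIdeal A) i).some (f ^ n)).1
    (hk i hi _ hn)⟩

end Groth.Agent.HyperFEt
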