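import Groth.Agent.HyperFEt.Cech
import Mathlib.RingTheory.Spectrum.Prime.Topology
import Mathlib.RingTheory.Localization.Away.AdjoinRoot

/-! Clopens of a formal punctured spectrum extend to clopens. -/

set_option autoImplicit false
set_option linter.style.haveILetI false
universe u

open PrimeSpectrum

noncomputable section

namespace Groth.Agent.HyperFEt

variable {A : Type u} [CommRing A] {B : Type u} [CommRing B] [Algebra A B] {ι : Type u} (g : ι → A)

variable (B) in
/-- The local rings of the cover. -/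
abbrev Rg (a : A) : Type u := Localization.Away (algebraMap A B a)

variable (B) in
/-- The localization maps. -/
def φg (j : ι) : B →ₗ[A] Rg B (g j) := (IsScalarTower.toAlgHom A B (Rg B (g j))).toLinearMap

instance instIsLocalizedModuleφg (j : ι) : IsLocalizedModule (Submonoid.powers (g j)) (φg B g j) := by
  haveI : IsLocalization (Algebra.algebraMapSubmonoid B (Submonoid.powers (g j))) (Rg B (g j)) := by
    rw [Algebra.algebraMapSubmonoid_powers]
    infer_instance
  exact isLocalizedModule_iff_isLocalization.2 inferInstance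

theorem φg_apply (j : ι) (b : B) : φg B g j b = algebraMap B (Rg B (g j)) b := rfl

variable (B) in
/-- The punctured spectrum of the algebra. -/
def XB : Set (PrimeSpectrum B) := {q | ∃ j, algebraMap A B (g j) ∉ q.asIdeal}

theorem mem_XB {q : PrimeSpectrum B} : q ∈ XB B g ↔ ∃ j, algebraMap A B (g j) ∉ q.asIdeal := Iff.rfl

theorem mem_fp_iff_mem_span (f : A) {R : Type u} [CommRing R] [Algebra A R] {n : ℕ} {x : R} :
    x ∈ fp f R n ↔ x ∈ Ideal.span {algebraMap A R f ^ n} := by
  rw [mem_fp, Ideal.mem_span_singleton']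
  simp only [Algebra.smul_def, map_pow, mul_comm]

theorem eq_of_idem {T : Type u} [CommRing T] {e e' : T} (he : IsIdempotentElem e) (he' : IsIdempotentElem e')
    (h : ∀ (K : Type u) [Field K] (χ : T →+* K), χ e ≠ 0 ↔ χ e' ≠ 0) : e = e' := by
  refine basicOpen_injOn_isIdempotentElem he he' (TopologicalSpace.Opens.ext (Set.ext fun p => ?_))
  have hk : ∀ z : T, algebraMap T p.asIdeal.ResidueField z ≠ 0 ↔ p ∈ basicOpen z := fun z =>
    not_congr Ideal.algebraMap_residueField_eq_zero
  exact (hk e).symm.trans ((h _ (algebraMap T p.asIdeal.ResidueField)).trans (hk e'))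

/-- The point of a field-valued map. -/
def pt {R K : Type u} [CommRing R] [Field K] (χ : R →+* K) : PrimeSpectrum R :=
  ⟨RingHom.ker χ, RingHom.ker_isPrime χ⟩

theorem map_mk_eq_zero {R K : Type u} [CommRing R] [Field K] (r : R) (n : ℕ)
    (χ : R ⧸ Ideal.span {r ^ n} →+* K) : χ (Ideal.Quotient.mk _ r) = 0 := by
  refine eq_zero_of_pow_eq_zero (n := n) ?_
  rw [← map_pow χ, ← map_pow (Ideal.Quotient.mk (Ideal.span {r ^ n})),
    Ideal.Quotient.eq_zero_iff_mem.2 (Ideal.mem_span_singleton_self (r ^ n)), map_zero]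

/-- A family of local idempotents modulo `f ^ n` cutting out an open. -/
theorem exists_family (f : A) (n : ℕ) (hn : n ≠ 0) (O O' : Set (PrimeSpectrum B)) (hO : IsOpen O) (hO' : IsOpen O')
    (hcov : ∀ q ∈ XB B g, algebraMap A B f ∈ q.asIdeal → (q ∈ O ↔ q ∉ O')) :
    ∃ y : ∀ j, Rg B (g j), CompatMod g (φg B g) (fp f B n) y ∧ (∀ j, y j * y j - y j ∈ fp f (Rg B (g j)) n) ∧
      ∀ (j : ι) (K : Type u) [Field K] (χ : Rg B (g j) →+* K), χ (algebraMap A _ f) = 0 →
        (χ (y j) ≠ 0 ↔ pt (χ.comp (algebraMap B _)) ∈ O) := by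
  let J (j : ι) : Ideal (Rg B (g j)) := Ideal.span {algebraMap A (Rg B (g j)) f ^ n}
  let c (j : ι) : B →+* Rg B (g j) ⧸ J j := (Ideal.Quotient.mk (J j)).comp (algebraMap B _)
  have hJmem : ∀ (j : ι) (p : PrimeSpectrum (Rg B (g j) ⧸ J j)),
      comap (c j) p ∈ XB B g ∧ algebraMap A B f ∈ (comap (c j) p).asIdeal := fun j p => by
    refine ⟨⟨j, fun hc => p.2.ne_top (Ideal.eq_top_of_isUnit_mem _ hc ?_)⟩, p.2.mem_of_pow_mem n ?_⟩
    · exact (IsLocalization.Away.algebraMap_isUnit (S := Rg B (g j)) (algebraMap A B (g j))).map (Ideal.Quotient.mk (J j))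
    · show c j (algebraMap A B f) ^ n ∈ p.asIdeal
      have h0 : c j (algebraMap A B f) ^ n = 0 := by
        show (Ideal.Quotient.mk (J j) _) ^ n = 0
        rw [← map_pow, Ideal.Quotient.eq_zero_iff_mem, ← IsScalarTower.algebraMap_apply]
        exact Ideal.mem_span_singleton_self _
      rw [h0]; exact zero_mem _
  have hcl : ∀ j, IsClopen (comap (c j) ⁻¹' O) := fun j => by
    refine ⟨?_, hO.preimage (continuous_comap _)⟩
    have he : comap (c j) ⁻¹' O = (comap (c j) ⁻¹' O')ᶜ := Set.ext fun p => hcov _ (hJmem j p).1 (hJmem j p).2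
    rw [he]
    exact (hO'.preimage (continuous_comap _)).isClosed_compl
  choose e he using fun j => (existsUnique_idempotent_basicOpen_eq_of_isClopen (hcl j)).exists
  choose y hy using fun j => Ideal.Quotient.mk_surjective (e j)
  have hchar : ∀ (j : ι) (K : Type u) [Field K] (χ : Rg B (g j) →+* K), χ (algebraMap A _ f) = 0 →
      (χ (y j) ≠ 0 ↔ pt (χ.comp (algebraMap B _)) ∈ O) := by
    intro j K _ χ hχ
    let χ' : Rg B (g j) ⧸ J j →+* K := Ideal.Quotient.lift (J j) χ fun r hr => by
      obtain ⟨z, rfl⟩ := Ideal.mem_span_singleton'.1 hr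
      rw [map_mul, map_pow, hχ, zero_pow hn, mul_zero]
    have h1 : χ (y j) = χ' (e j) := by rw [← hy]; rfl
    rw [h1]
    exact Iff.of_eq (congrArg (fun S : Set (PrimeSpectrum _) => pt χ' ∈ S) (he j).2.symm)
  refine ⟨y, ?_, fun j => ?_, hchar⟩
  · intro i j a b k l ha hb
    let R₂ := Localization.Away (algebraMap A B (g i) * algebraMap A B (g j))
    let L₂ : Ideal R₂ := Ideal.span {algebraMap A R₂ f ^ n}
    have hu : IsUnit (algebraMap B R₂ (algebraMap A B (g i) * algebraMap A B (g j))) :=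
      IsLocalization.Away.algebraMap_isUnit _
    rw [map_mul] at hu
    let ρi : Rg B (g i) →+* R₂ := IsLocalization.Away.lift (algebraMap A B (g i))
      (g := algebraMap B R₂) (isUnit_of_mul_isUnit_left hu)
    let ρj : Rg B (g j) →+* R₂ := IsLocalization.Away.lift (algebraMap A B (g j))
      (g := algebraMap B R₂) (isUnit_of_mul_isUnit_right hu)
    have hρi : ∀ z, ρi (algebraMap B _ z) = algebraMap B R₂ z := IsLocalization.Away.lift_eq _ _
    have hρj : ∀ z, ρj (algebraMap B _ z) = algebraMap B R₂ z := IsLocalization.Away.lift_eq _ _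
    have hA : ∀ z : A, ρi (algebraMap A _ z) = algebraMap A R₂ z ∧ ρj (algebraMap A _ z) = algebraMap A R₂ z :=
      fun z => ⟨by rw [IsScalarTower.algebraMap_apply A B (Rg B (g i)), hρi, ← IsScalarTower.algebraMap_apply],
        by rw [IsScalarTower.algebraMap_apply A B (Rg B (g j)), hρj, ← IsScalarTower.algebraMap_apply]⟩
    have hid : ∀ (jj : ι) (ρ : Rg B (g jj) →+* R₂), (∀ z : A, ρ (algebraMap A _ z) = algebraMap A R₂ z) →
        IsIdempotentElem (Ideal.Quotient.mk L₂ (ρ (y jj))) := fun jj ρ hρ => by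
      show _ * _ = _
      rw [← map_mul (Ideal.Quotient.mk L₂), ← map_mul ρ, Ideal.Quotient.eq, ← map_sub]
      have h0 : y jj * y jj - y jj ∈ J jj := by
        rw [← Ideal.Quotient.eq, map_mul, hy]; exact (he jj).1
      obtain ⟨z, hz⟩ := Ideal.mem_span_singleton'.1 h0
      rw [← hz, map_mul, map_pow, hρ]
      exact Ideal.mem_span_singleton'.2 ⟨_, rfl⟩
    have heq : Ideal.Quotient.mk L₂ (ρi (y i)) = Ideal.Quotient.mk L₂ (ρj (y j)) := by
      refine eq_of_idem (hid i ρi fun z => (hA z).1) (hid j ρj fun z => (hA z).2) fun K _ χ => ?_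
      have hf0 : χ (Ideal.Quotient.mk L₂ (algebraMap A R₂ f)) = 0 := by
        exact map_mk_eq_zero _ n χ
      have h1 := hchar i K ((χ.comp (Ideal.Quotient.mk L₂)).comp ρi) (by
        show χ (Ideal.Quotient.mk L₂ (ρi _)) = 0
        rw [(hA f).1, hf0])
      have h2 := hchar j K ((χ.comp (Ideal.Quotient.mk L₂)).comp ρj) (by
        show χ (Ideal.Quotient.mk L₂ (ρj _)) = 0
        rw [(hA f).2, hf0])
      have e1 : ((χ.comp (Ideal.Quotient.mk L₂)).comp ρi).comp (algebraMap B _) =
          (χ.comp (Ideal.Quotient.mk L₂)).comp (algebraMap B R₂) := RingHom.ext fun z => by simp [hρi]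
      have e2 : ((χ.comp (Ideal.Quotient.mk L₂)).comp ρj).comp (algebraMap B _) =
          (χ.comp (Ideal.Quotient.mk L₂)).comp (algebraMap B R₂) := RingHom.ext fun z => by simp [hρj]
      rw [e1] at h1
      rw [e2] at h2
      exact h1.trans h2.symm
    rw [Ideal.Quotient.eq] at heq
    obtain ⟨z, hz⟩ := Ideal.mem_span_singleton'.1 heq
    have hd : algebraMap B R₂ (g j ^ l • a - g i ^ k • b) =
        algebraMap A R₂ (g i ^ k * g j ^ l) * (ρi (y i) - ρj (y j)) := by
      have h3 : algebraMap A R₂ (g i ^ k) * ρi (y i) = algebraMap B R₂ a := by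
        rw [← hρi a, ← (hA (g i ^ k)).1, ← map_mul ρi, ← Algebra.smul_def (g i ^ k) (y i)]; exact congrArg ρi ha
      have h4 : algebraMap A R₂ (g j ^ l) * ρj (y j) = algebraMap B R₂ b := by
        rw [← hρj b, ← (hA (g j ^ l)).2, ← map_mul ρj, ← Algebra.smul_def (g j ^ l) (y j)]; exact congrArg ρj hb
      rw [map_sub, Algebra.smul_def, Algebra.smul_def, map_mul, map_mul, ← h3, ← h4,
        ← IsScalarTower.algebraMap_apply, ← IsScalarTower.algebraMap_apply, map_mul]
      ring
    obtain ⟨s, z', hz'⟩ := IsLocalization.Away.surj (algebraMap A B (g i) * algebraMap A B (g j)) z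
    have hkey : algebraMap B R₂ ((algebraMap A B (g i) * algebraMap A B (g j)) ^ s * (g j ^ l • a - g i ^ k • b)) =
        algebraMap B R₂ (algebraMap A B (g i ^ k * g j ^ l) * algebraMap A B f ^ n * z') := by
      rw [map_mul _ _ z', ← hz', map_mul, hd, ← hz]
      simp only [map_mul, map_pow, IsScalarTower.algebraMap_apply A B R₂]
      ring
    obtain ⟨⟨_, p, rfl⟩, hp⟩ := IsLocalization.exists_of_eq
      (M := Submonoid.powers (algebraMap A B (g i) * algebraMap A B (g j))) hkey
    refine ⟨p + s, (g i * g j) ^ p • (g i ^ k * g j ^ l) • z', ?_⟩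
    rw [LinearMap.lsmul_apply]
    simp only [Algebra.smul_def, map_mul, map_pow] at hp ⊢
    linear_combination -hp
  · rw [mem_fp_iff_mem_span, ← Ideal.Quotient.eq, map_mul, hy]
    exact (he j).1

/-- Products of compatible families. -/
theorem compatMod_mul (N : Ideal B) {x x' : ∀ j, Rg B (g j)}
    (hx : CompatMod g (φg B g) (N.restrictScalars A) x) (hx' : CompatMod g (φg B g) (N.restrictScalars A) x') :
    CompatMod g (φg B g) (N.restrictScalars A) (fun j => x j * x' j) := by
  choose a k ha using fun j => exists_num g (φg B g) j (x j)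
  choose b l hb using fun j => exists_num g (φg B g) j (x' j)
  refine compatMod_of_num g (φg B g) _ _ (fun j => a j * b j) (fun j => k j + l j) (fun j => ?_) fun i j => ?_
  · rw [φg_apply, map_mul, ← φg_apply, ← φg_apply, ← ha, ← hb, smul_mul_smul_comm, ← pow_add]
  · obtain ⟨n, hn⟩ := hx i j _ _ _ _ (ha i) (ha j)
    obtain ⟨m, hm⟩ := hx' i j _ _ _ _ (hb i) (hb j)
    refine ⟨n + m, ?_⟩
    have key : (g i * g j) ^ (n + m) • (g j ^ (k j + l j) • (a i * b i) - g i ^ (k i + l i) • (a j * b j)) =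
        ((g i * g j) ^ m • g j ^ l j • b i) * ((g i * g j) ^ n • (g j ^ k j • a i - g i ^ k i • a j)) +
          ((g i * g j) ^ n • g i ^ k i • a j) * ((g i * g j) ^ m • (g j ^ l j • b i - g i ^ l i • b j)) := by
      simp only [Algebra.smul_def, map_pow, map_mul]
      ring
    rw [key]
    exact N.add_mem (N.mul_mem_left _ hn) (N.mul_mem_left _ hm)

/-- A relative clopen of the formal punctured spectrum extends uniquely. -/
theorem exists_lift (f : A) (hB : FormalBij g (φg B g) f) (O O' : Set (PrimeSpectrum B)) (hO : IsOpen O)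
    (hO' : IsOpen O') (hcov : ∀ q ∈ XB B g, algebraMap A B f ∈ q.asIdeal → (q ∈ O ↔ q ∉ O')) :
    ∃ W W' : Set (PrimeSpectrum B), IsOpen W ∧ IsOpen W' ∧ (∀ q ∈ XB B g, (q ∈ W ↔ q ∉ W')) ∧
      ∀ q ∈ XB B g, algebraMap A B f ∈ q.asIdeal → (q ∈ W ↔ q ∈ O) := by
  choose y hy hyid hchar using fun n => exists_family g f (n + 1) (Nat.succ_ne_zero n) O O' hO hO' hcov
  obtain ⟨x, hx, hxy⟩ := hB.2 y hy fun n j => by
    rw [mem_fp_iff_mem_span, ← Ideal.Quotient.eq]
    refine eq_of_idem ?_ ?_ fun K _ χ => ?_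
    · show _ * _ = _
      rw [← map_mul, Ideal.Quotient.eq, ← mem_fp_iff_mem_span]
      exact fp_le f _ (Nat.le_succ _) (hyid (n + 1) j)
    · show _ * _ = _
      rw [← map_mul, Ideal.Quotient.eq, ← mem_fp_iff_mem_span]
      exact hyid n j
    · have hf0 : χ (Ideal.Quotient.mk _ (algebraMap A (Rg B (g j)) f)) = 0 := by
        exact map_mk_eq_zero _ (n + 1) χ
      exact (hchar (n + 1) j K (χ.comp (Ideal.Quotient.mk _)) hf0).trans
        (hchar n j K (χ.comp (Ideal.Quotient.mk _)) hf0).symm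
  have hsq : (fun j => x j * x j) - x = 0 := by
    refine hB.1 _ (compatMod_sub g _ _ ?_ hx) fun n j => ?_
    · have h0 : ((⊥ : Ideal B).restrictScalars A) = (⊥ : Submodule A B) := Submodule.restrictScalars_bot ..
      exact h0 ▸ compatMod_mul g ⊥ (h0 ▸ hx) (h0 ▸ hx)
    · show x j * x j - x j ∈ _
      have h1 : x j * x j - x j = (x j + y n j - 1) * (x j - y n j) + (y n j * y n j - y n j) := by ring
      rw [h1, mem_fp_iff_mem_span]
      exact Ideal.add_mem _ (Ideal.mul_mem_left _ _ ((mem_fp_iff_mem_span f).1 (hxy n j)))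
        ((mem_fp_iff_mem_span f).1 (hyid n j))
  choose a k ha using fun j => exists_num g (φg B g) j (x j)
  let gk (j : ι) : B := algebraMap A B (g j) ^ k j
  have hgk : ∀ j (q : PrimeSpectrum B), algebraMap A B (g j) ∉ q.asIdeal → gk j ∉ q.asIdeal :=
    fun j q h hc => h (q.2.mem_of_pow_mem _ hc)
  have hdi : ∀ j (q : PrimeSpectrum B), algebraMap A B (g j) ∉ q.asIdeal →
      (a j ∉ q.asIdeal ↔ gk j - a j ∈ q.asIdeal) := by
    intro j q hq
    refine ⟨fun h => ?_, fun h hc => hgk j q hq (by simpa using q.asIdeal.add_mem h hc)⟩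
    have h0 : φg B g j (a j * (gk j - a j)) = 0 := by
      have hxx : x j * x j = x j := sub_eq_zero.1 (congrFun hsq j)
      rw [φg_apply, map_mul, map_sub, ← φg_apply, ← ha, map_pow, ← IsScalarTower.algebraMap_apply,
        Algebra.smul_def, map_pow]
      linear_combination -(algebraMap A (Rg B (g j)) (g j) ^ k j) ^ 2 * hxx
    obtain ⟨p, hp⟩ := exists_pow_smul_eq_zero g (φg B g) j h0
    rw [Algebra.smul_def, map_pow] at hp
    have hmem : algebraMap A B (g j) ^ p * (a j * (gk j - a j)) ∈ q.asIdeal := hp ▸ zero_mem _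
    rcases q.2.mem_or_mem hmem with hc | hc
    · exact absurd (q.2.mem_of_pow_mem _ hc) hq
    · exact (q.2.mem_or_mem hc).resolve_left h
  have hcons : ∀ i j (q : PrimeSpectrum B), algebraMap A B (g i) ∉ q.asIdeal → algebraMap A B (g j) ∉ q.asIdeal →
      (a i ∈ q.asIdeal ↔ a j ∈ q.asIdeal) := by
    intro i j q hi hj
    obtain ⟨p, hp⟩ := hx i j _ _ _ _ (ha i) (ha j)
    rw [Submodule.mem_bot, Algebra.smul_def, map_pow, map_mul] at hp
    have hmem : (algebraMap A B (g i) * algebraMap A B (g j)) ^ p * (g j ^ k j • a i - g i ^ k i • a j) ∈ q.asIdeal :=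
      hp ▸ zero_mem _
    have hd : g j ^ k j • a i - g i ^ k i • a j ∈ q.asIdeal := (q.2.mem_or_mem hmem).resolve_left fun hc =>
      (q.2.mem_or_mem (q.2.mem_of_pow_mem _ hc)).elim hi hj
    simp only [Algebra.smul_def, map_pow] at hd
    constructor
    · intro h
      exact (q.2.mem_or_mem ((q.asIdeal.sub_mem_iff_right (q.asIdeal.mul_mem_left _ h)).1 hd)).resolve_left
        (hgk i q hi)
    · intro h
      exact (q.2.mem_or_mem ((q.asIdeal.sub_mem_iff_left (q.asIdeal.mul_mem_left _ h)).1 hd)).resolve_left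
        (hgk j q hj)
  let W : Set (PrimeSpectrum B) := ⋃ j, (basicOpen (algebraMap A B (g j) * a j) : Set _)
  let W' : Set (PrimeSpectrum B) := ⋃ j, (basicOpen (algebraMap A B (g j) * (gk j - a j)) : Set _)
  have hmW : ∀ q j, algebraMap A B (g j) ∉ q.asIdeal → (q ∈ W ↔ a j ∉ q.asIdeal) := by
    intro q j hj
    rw [Set.mem_iUnion]
    refine ⟨fun ⟨i, hi⟩ => ?_, fun h => ⟨j, fun hc => (q.2.mem_or_mem hc).elim hj h⟩⟩
    exact fun hc => hi (q.asIdeal.mul_mem_left _ ((hcons i j q (fun hc' => hi (q.asIdeal.mul_mem_right _ hc')) hj).2 hc))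
  refine ⟨W, W', isOpen_iUnion fun j => (basicOpen _).2, isOpen_iUnion fun j => (basicOpen _).2, ?_, ?_⟩
  · rintro q ⟨j, hj⟩
    rw [hmW q j hj, Set.mem_iUnion]
    refine ⟨fun h ⟨i, hi⟩ => ?_, fun h hc => h ⟨j, fun hc' => ?_⟩⟩
    · have hgi : algebraMap A B (g i) ∉ q.asIdeal := fun hc' => hi (q.asIdeal.mul_mem_right _ hc')
      exact hi (q.asIdeal.mul_mem_left _ ((hdi i q hgi).1 fun hc => h ((hcons i j q hgi hj).1 hc)))
    · rcases q.2.mem_or_mem hc' with hc' | hc'
      · exact hj hc'
      · exact (hdi j q hj).2 hc' hc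
  · rintro q ⟨j, hj⟩ hf
    rw [hmW q j hj]
    let π := algebraMap B q.asIdeal.ResidueField
    have hπ : ∀ z, π z = 0 ↔ z ∈ q.asIdeal := fun z => Ideal.algebraMap_residueField_eq_zero
    let χ : Rg B (g j) →+* q.asIdeal.ResidueField := IsLocalization.Away.lift (algebraMap A B (g j))
      (g := π) (isUnit_iff_ne_zero.2 fun hc => hj ((hπ _).1 hc))
    have hχ : ∀ z, χ (algebraMap B _ z) = π z := IsLocalization.Away.lift_eq _ _
    have hχf : χ (algebraMap A _ f) = 0 := by
      rw [IsScalarTower.algebraMap_apply A B (Rg B (g j)), hχ]; exact (hπ _).2 hf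
    have hq : pt (χ.comp (algebraMap B _)) = q := PrimeSpectrum.ext (Ideal.ext fun z => by
      show χ (algebraMap B _ z) = 0 ↔ _
      rw [hχ]; exact hπ z)
    have h1 := hchar 0 j _ χ hχf
    rw [hq] at h1
    rw [← h1]
    have h2 : χ (x j) = χ (y 0 j) := by
      rw [← sub_eq_zero, ← map_sub]
      obtain ⟨z, hz⟩ := hxy 0 j
      rw [← hz, LinearMap.lsmul_apply, Algebra.smul_def, map_mul, map_pow, map_pow, hχf, pow_one, zero_mul]
    rw [← h2, ne_eq, ← hπ (a j), ← hχ, ← φg_apply, ← ha, Algebra.smul_def, map_mul,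
      IsScalarTower.algebraMap_apply A B (Rg B (g j)), hχ, mul_eq_zero, not_or, hπ, map_pow]
    exact and_iff_right (fun hc => hj (q.2.mem_of_pow_mem _ hc))

/-- A clopen missing the zero locus of `f` is empty. -/
theorem eq_empty_of_disjoint (f : A) (hB : FormalBij g (φg B g) f) (W W' : Set (PrimeSpectrum B)) (hW : IsOpen W)
    (hW' : IsOpen W') (hcov : ∀ q ∈ XB B g, (q ∈ W ↔ q ∉ W'))
    (hdis : ∀ q ∈ XB B g, algebraMap A B f ∈ q.asIdeal → q ∉ W) : ∀ q ∈ XB B g, q ∉ W := by
  obtain ⟨x, hx, hxid, hchar⟩ := exists_family g (0 : A) 1 one_ne_zero W W' hW hW' fun q hq _ => hcov q hq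
  have hbot : fp (0 : A) B 1 = ⊥ := eq_bot_iff.2 fun z hz => by
    obtain ⟨w, rfl⟩ := hz; simp
  rw [hbot] at hx
  have h0 : x = 0 := hB.1 x hx fun n j => by
    rw [mem_fp_iff_mem_span, ← sub_zero (x j), ← Ideal.Quotient.eq, map_zero]
    refine eq_of_idem ?_ (IsIdempotentElem.zero) fun K _ χ => iff_of_false ?_ (by simp)
    · show _ * _ = _
      obtain ⟨w, hw⟩ := hxid j
      rw [← map_mul, Ideal.Quotient.eq, ← hw]
      simp
    · intro hne
      have hf0 : χ (Ideal.Quotient.mk _ (algebraMap A (Rg B (g j)) f)) = 0 := by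
        exact map_mk_eq_zero _ (n + 1) χ
      let θ : Rg B (g j) →+* K := χ.comp (Ideal.Quotient.mk _)
      have hmem := (hchar j K θ (by rw [map_zero, map_zero])).1 hne
      refine hdis _ ⟨j, fun hc => ?_⟩ ?_ hmem
      · exact ((IsLocalization.Away.algebraMap_isUnit (S := Rg B (g j)) (algebraMap A B (g j))).map θ).ne_zero hc
      · show θ (algebraMap B _ (algebraMap A B f)) = 0
        rw [← IsScalarTower.algebraMap_apply]
        exact hf0
  rintro q ⟨j, hj⟩ hqW
  let π := algebraMap B q.asIdeal.ResidueField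
  let χ : Rg B (g j) →+* q.asIdeal.ResidueField := IsLocalization.Away.lift (algebraMap A B (g j))
    (g := π) (isUnit_iff_ne_zero.2 fun hc => hj (Ideal.algebraMap_residueField_eq_zero.1 hc))
  have hq : pt (χ.comp (algebraMap B _)) = q := PrimeSpectrum.ext (Ideal.ext fun z => by
    show χ (algebraMap B _ z) = 0 ↔ _
    rw [IsLocalization.Away.lift_eq]; exact Ideal.algebraMap_residueField_eq_zero)
  have h1 := (hchar j _ χ (by rw [map_zero, map_zero])).2 (hq.symm ▸ hqW)
  rw [h0] at h1
  exact h1 (map_zero _)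

/-- Local retractions from projectivity of the localizations. -/
theorem exists_retract (M : Type u) [AddCommGroup M] [Module A M] [Module.FinitePresentation A M] (a : A)
    (hP : Module.Projective (Localization.Away a) (LocalizedModule (Submonoid.powers a) M)) :
    ∃ (N k : ℕ) (α : Fin N → M →ₗ[A] A) (β : Fin N → A →ₗ[A] M), ∀ m, ∑ c, β c (α c m) = a ^ k • m := by
  classical
  obtain ⟨N, π, hπ⟩ := Module.Finite.exists_fin' A M
  let Sa := Submonoid.powers a
  let Aa := Localization.Away a
  let Ma := LocalizedModule Sa M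
  let mk := LocalizedModule.mkLinearMap Sa M
  let e : Fin N → Ma := fun c => mk (π (Pi.single c 1))
  let Pi' : (Fin N → Aa) →ₗ[Aa] Ma := Fintype.linearCombination Aa e
  have hsurj : Function.Surjective Pi' := fun z => by
    induction z using LocalizedModule.induction_on with
    | h m s =>
      obtain ⟨v, rfl⟩ := hπ m
      refine ⟨fun c => Localization.mk (v c) s, IsLocalizedModule.smul_injective mk s ?_⟩
      show (s : A) • _ = (s : A) • LocalizedModule.mk (π v) s
      rw [LocalizedModule.smul'_mk, show (s : A) • π v = s • π v from rfl, LocalizedModule.mk_cancel,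
        Fintype.linearCombination_apply, Finset.smul_sum]
      show _ = mk (π v)
      conv_rhs => rw [← Finset.univ_sum_single v, map_sum, map_sum]
      refine Finset.sum_congr rfl fun c _ => ?_
      have hsc : (Pi.single c (v c) : Fin N → A) = v c • Pi.single c 1 := by
        rw [← Pi.single_smul, smul_eq_mul, mul_one]
      rw [hsc, map_smul, map_smul, ← smul_assoc, ← algebraMap_smul Aa (v c)]
      congr 1
      rw [Localization.mk_eq_mk'_apply, Algebra.smul_def]
      exact IsLocalization.mk'_spec' Aa (v c) s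
  haveI := hP
  obtain ⟨σ, hσ⟩ := Module.projective_lifting_property Pi' LinearMap.id hsurj
  choose h s hs using fun c : Fin N => Module.FinitePresentation.exists_lift_of_isLocalizedModule Sa
    (Algebra.linearMap A Aa)
    ((((LinearMap.proj c : (Fin N → Aa) →ₗ[Aa] Aa).comp σ).restrictScalars A).comp mk)
  choose p hp using fun c => (s c).2
  let t := ∑ c, p c
  let α : Fin N → M →ₗ[A] A := fun c => a ^ (t - p c) • h c
  let β : Fin N → A →ₗ[A] M := fun c => LinearMap.toSpanSingleton A M (π (Pi.single c 1))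
  let G : M →ₗ[A] M := ∑ c, (β c).comp (α c)
  have hG : mk.comp G = mk.comp (a ^ t • LinearMap.id) := LinearMap.ext fun m => by
    have h1 : ∀ c, (h c m : A) • (1 : Aa) = a ^ p c • σ (mk m) c := fun c => by
      have := LinearMap.congr_fun (hs c) m
      rw [← Algebra.algebraMap_eq_smul_one]
      refine this.trans ?_
      rw [LinearMap.smul_apply, Submonoid.smul_def]
      rw [← hp c]
      rfl
    show mk (G m) = mk (a ^ t • m)
    rw [LinearMap.sum_apply, map_sum, map_smul]
    conv_rhs => rw [← show Pi' (σ (mk m)) = mk m from LinearMap.congr_fun hσ (mk m), Fintype.linearCombination_apply,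
      Finset.smul_sum]
    refine Finset.sum_congr rfl fun c _ => ?_
    show mk ((a ^ (t - p c) • h c m) • π (Pi.single c 1)) = _
    rw [map_smul, smul_assoc]
    show a ^ (t - p c) • h c m • e c = a ^ t • σ (mk m) c • e c
    rw [← algebraMap_smul Aa (h c m) (e c), Algebra.algebraMap_eq_smul_one, h1, smul_assoc, smul_smul, ← pow_add,
      Nat.sub_add_cancel (Finset.single_le_sum (fun d _ => Nat.zero_le (p d)) (Finset.mem_univ c))]
  obtain ⟨⟨_, r, rfl⟩, hr⟩ := Module.Finite.exists_smul_of_comp_eq_of_isLocalizedModule Sa mk G _ hG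
  refine ⟨N, r + t, fun c => a ^ r • α c, β, fun m => ?_⟩
  have := LinearMap.congr_fun hr m
  simp only [Submonoid.smul_def, LinearMap.smul_apply, LinearMap.id_apply, smul_smul, ← pow_add] at this
  rw [← this, LinearMap.sum_apply, Finset.smul_sum]
  exact Finset.sum_congr rfl fun c _ => map_smul (β c) (a ^ r) (α c m)

end Groth.Agent.HyperFEt
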