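import Groth.Agent.S0801
import Mathlib.Algebra.Module.FinitePresentation
import Mathlib.RingTheory.Localization.Away.Basic

/-! Formal functions on a punctured spectrum in Čech form, with numerators. -/

set_option autoImplicit false
set_option linter.style.haveILetI false
universe u

open AlgebraicGeometry TopologicalSpace Opposite CategoryTheory
open Groth.Agent.PuncSecLib

noncomputable section

namespace Groth.Agent.HyperFEt

variable {A : Type u} [CommRing A] {ι : Type u} (g : ι → A)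

/-- The multiples of `f ^ n`. -/
def fp (f : A) (M : Type u) [AddCommGroup M] [Module A M] (n : ℕ) : Submodule A M :=
  LinearMap.range (LinearMap.lsmul A M (f ^ n))

theorem mem_fp {f : A} {M : Type u} [AddCommGroup M] [Module A M] {n : ℕ} {x : M} :
    x ∈ fp f M n ↔ ∃ z, f ^ n • z = x := Iff.rfl

theorem fp_le (f : A) (M : Type u) [AddCommGroup M] [Module A M] {n m : ℕ} (h : n ≤ m) :
    fp f M m ≤ fp f M n := by
  rintro x ⟨z, rfl⟩
  refine ⟨f ^ (m - n) • z, ?_⟩
  show f ^ n • f ^ (m - n) • z = f ^ m • z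
  rw [smul_smul, ← pow_add, Nat.add_sub_cancel' h]

theorem map_mem_fp {f : A} {M M' : Type u} [AddCommGroup M] [Module A M] [AddCommGroup M'] [Module A M']
    (u : M →ₗ[A] M') {n : ℕ} {x : M} (h : x ∈ fp f M n) : u x ∈ fp f M' n := by
  obtain ⟨z, rfl⟩ := h
  exact ⟨u z, (u.map_smul _ _).symm⟩

variable {M : Type u} [AddCommGroup M] [Module A M] {Mj : ι → Type u} [∀ j, AddCommGroup (Mj j)]
  [∀ j, Module A (Mj j)] (φ : ∀ j, M →ₗ[A] Mj j)

/-- The local fractions agree on overlaps modulo `N`. -/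
def CompatMod (N : Submodule A M) (x : ∀ j, Mj j) : Prop :=
  ∀ (i j : ι) (a b : M) (k l : ℕ), g i ^ k • x i = φ i a → g j ^ l • x j = φ j b →
    ∃ n, (g i * g j) ^ n • (g j ^ l • a - g i ^ k • b) ∈ N

/-- Compatible families for `f`-adic limits come from unique compatible families. -/
def FormalBij (f : A) : Prop :=
  (∀ x, CompatMod g φ ⊥ x → (∀ n j, x j ∈ fp f (Mj j) (n + 1)) → x = 0) ∧
  ∀ y : ℕ → ∀ j, Mj j, (∀ n, CompatMod g φ (fp f M (n + 1)) (y n)) →
    (∀ n j, y (n + 1) j - y n j ∈ fp f (Mj j) (n + 1)) →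
      ∃ x, CompatMod g φ ⊥ x ∧ ∀ n j, x j - y n j ∈ fp f (Mj j) (n + 1)

variable [∀ j, IsLocalizedModule (Submonoid.powers (g j)) (φ j)]

theorem exists_num (j : ι) (x : Mj j) : ∃ (a : M) (k : ℕ), g j ^ k • x = φ j a := by
  obtain ⟨⟨a, ⟨_, k, rfl⟩⟩, h⟩ := IsLocalizedModule.surj (Submonoid.powers (g j)) (φ j) x
  exact ⟨a, k, h⟩

theorem exists_pow_smul_eq_zero (j : ι) {a : M} (h : φ j a = 0) : ∃ n, g j ^ n • a = 0 := by
  obtain ⟨⟨_, n, rfl⟩, hn⟩ := (IsLocalizedModule.eq_zero_iff (Submonoid.powers (g j)) (φ j)).1 h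
  exact ⟨n, hn⟩

include φ in
theorem eq_zero_of_pow_smul (j : ι) {n : ℕ} {x : Mj j} (h : g j ^ n • x = 0) : x = 0 :=
  IsLocalizedModule.smul_injective (φ j) (⟨g j ^ n, n, rfl⟩ : Submonoid.powers (g j)) (by
    show g j ^ n • x = g j ^ n • 0
    rw [h, smul_zero])

omit [∀ j, IsLocalizedModule (Submonoid.powers (g j)) (φ j)] in
theorem cancel_pow {P Q : Type u} [AddCommGroup P] [Module A P] [AddCommGroup Q] [Module A Q] (v : P →ₗ[A] Q)
    (a : A) [IsLocalizedModule (Submonoid.powers a) v] {k : ℕ} {x y : Q} (h : a ^ k • x = a ^ k • y) : x = y :=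
  IsLocalizedModule.smul_injective v (⟨a ^ k, k, rfl⟩ : Submonoid.powers a) h

omit [∀ j, IsLocalizedModule (Submonoid.powers (g j)) (φ j)] in
theorem pow_smul_mk' {P Q : Type u} [AddCommGroup P] [Module A P] [AddCommGroup Q] [Module A Q] (v : P →ₗ[A] Q)
    (a : A) [IsLocalizedModule (Submonoid.powers a) v] (k : ℕ) (c : P) :
    a ^ k • IsLocalizedModule.mk' v c (⟨a ^ k, k, rfl⟩ : Submonoid.powers a) = v c :=
  IsLocalizedModule.mk'_cancel' v c (⟨a ^ k, k, rfl⟩ : Submonoid.powers a)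

/-- One choice of numerators suffices. -/
theorem compatMod_of_num (N : Submodule A M) (x : ∀ j, Mj j) (a : ι → M) (k : ι → ℕ)
    (hx : ∀ j, g j ^ k j • x j = φ j (a j))
    (h : ∀ i j, ∃ n, (g i * g j) ^ n • (g j ^ k j • a i - g i ^ k i • a j) ∈ N) : CompatMod g φ N x := by
  intro i j a' b' k' l' ha hb
  obtain ⟨p, hp⟩ := exists_pow_smul_eq_zero g φ i (a := g i ^ k i • a' - g i ^ k' • a i) (by
    rw [map_sub, map_smul, map_smul, ← ha, ← hx, smul_smul, smul_smul, mul_comm, sub_self])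
  obtain ⟨q, hq⟩ := exists_pow_smul_eq_zero g φ j (a := g j ^ k j • b' - g j ^ l' • a j) (by
    rw [map_sub, map_smul, map_smul, ← hb, ← hx, smul_smul, smul_smul, mul_comm, sub_self])
  obtain ⟨n, hn⟩ := h i j
  refine ⟨n + p + q + k i + k j, ?_⟩
  have key : (g i * g j) ^ (n + p + q + k i + k j) • (g j ^ l' • a' - g i ^ k' • b') =
      (g i ^ (q + k j + p + k') * g j ^ (p + q + k i + l')) •
        ((g i * g j) ^ n • (g j ^ k j • a i - g i ^ k i • a j)) +
        (g i ^ (n + q + k j) * g j ^ (n + p + q + k i + k j + l')) •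
          (g i ^ p • (g i ^ k i • a' - g i ^ k' • a i)) -
        (g i ^ (n + p + q + k i + k j + k') * g j ^ (n + p + k i)) •
          (g j ^ q • (g j ^ k j • b' - g j ^ l' • a j)) := by
    match_scalars <;> ring
  rw [key, hp, hq, smul_zero, smul_zero, add_zero, sub_zero]
  exact N.smul_mem _ hn

theorem compatMod_sub (N : Submodule A M) {x y : ∀ j, Mj j} (hx : CompatMod g φ N x)
    (hy : CompatMod g φ N y) : CompatMod g φ N (x - y) := by
  choose a k ha using fun j => exists_num g φ j (x j)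
  choose b l hb using fun j => exists_num g φ j (y j)
  refine compatMod_of_num g φ N _ (fun j => g j ^ l j • a j - g j ^ k j • b j) (fun j => k j + l j)
    (fun j => ?_) (fun i j => ?_)
  · rw [Pi.sub_apply, map_sub, map_smul, map_smul, ← ha, ← hb, smul_sub, smul_smul, smul_smul,
      ← pow_add, ← pow_add, add_comm (l j)]
  · obtain ⟨n, hn⟩ := hx i j _ _ _ _ (ha i) (ha j)
    obtain ⟨m, hm⟩ := hy i j _ _ _ _ (hb i) (hb j)
    refine ⟨n + m, ?_⟩
    have key : (g i * g j) ^ (n + m) •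
        (g j ^ (k j + l j) • (g i ^ l i • a i - g i ^ k i • b i) -
          g i ^ (k i + l i) • (g j ^ l j • a j - g j ^ k j • b j)) =
        ((g i * g j) ^ m * (g i ^ l i * g j ^ l j)) • ((g i * g j) ^ n • (g j ^ k j • a i - g i ^ k i • a j)) -
        ((g i * g j) ^ n * (g i ^ k i * g j ^ k j)) • ((g i * g j) ^ m • (g j ^ l j • b i - g i ^ l i • b j)) := by
      match_scalars <;> ring
    rw [key]
    exact N.sub_mem (N.smul_mem _ hn) (N.smul_mem _ hm)

omit [∀ j, IsLocalizedModule (Submonoid.powers (g j)) (φ j)] in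
theorem compatMod_mono {N N' : Submodule A M} (h : N ≤ N') {x : ∀ j, Mj j} (hx : CompatMod g φ N x) :
    CompatMod g φ N' x := fun i j a b k l ha hb => by
  obtain ⟨n, hn⟩ := hx i j a b k l ha hb
  exact ⟨n, h hn⟩

section map

variable {M' : Type u} [AddCommGroup M'] [Module A M'] {Mj' : ι → Type u} [∀ j, AddCommGroup (Mj' j)]
  [∀ j, Module A (Mj' j)] (φ' : ∀ j, M' →ₗ[A] Mj' j) [∀ j, IsLocalizedModule (Submonoid.powers (g j)) (φ' j)]

/-- The maps on local pieces. -/
def mapj (u : M →ₗ[A] M') (j : ι) : Mj j →ₗ[A] Mj' j :=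
  IsLocalizedModule.map (Submonoid.powers (g j)) (φ j) (φ' j) u

theorem mapj_apply (u : M →ₗ[A] M') (j : ι) (a : M) : mapj g φ φ' u j (φ j a) = φ' j (u a) :=
  IsLocalizedModule.map_apply _ _ _ _ _

theorem compatMod_map (u : M →ₗ[A] M') {N : Submodule A M} {N' : Submodule A M'} (hN : ∀ a ∈ N, u a ∈ N')
    {x : ∀ j, Mj j} (hx : CompatMod g φ N x) : CompatMod g φ' N' (fun j => mapj g φ φ' u j (x j)) := by
  choose a k ha using fun j => exists_num g φ j (x j)
  refine compatMod_of_num g φ' N' _ (fun j => u (a j)) k (fun j => ?_) (fun i j => ?_)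
  · rw [← map_smul, ha, mapj_apply]
  · obtain ⟨n, hn⟩ := hx i j _ _ _ _ (ha i) (ha j)
    refine ⟨n, ?_⟩
    rw [← map_smul, ← map_smul, ← map_sub, ← map_smul]
    exact hN _ hn

end map

section Sheaf

variable (A) in
/-- Basic opens. -/
abbrev Dg (a : A) : (Sp A).Opens := PrimeSpectrum.basicOpen a

theorem isLocalizedModule_ε (M : Type u) [AddCommGroup M] [Module A M] (a : A) :
    IsLocalizedModule (Submonoid.powers a) (ε M (Dg A a)) :=
  IsLocalizedModule.of_linearEquiv (Submonoid.powers a)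
    (StructureSheaf.toOpenₗ A M (PrimeSpectrum.basicOpen a))
    ((tilde.modulesSpecToSheafIso (R := CommRingCat.of A) (ModuleCat.of A M)).app _).toLinearEquiv.symm

theorem isUnit_end_sec (M : Type u) [AddCommGroup M] [Module A M] (a : A) (x : Submonoid.powers a) :
    IsUnit (algebraMap A (Module.End A (Sec M (Dg A a))) x) :=
  haveI := isLocalizedModule_ε M a
  IsLocalizedModule.map_units (ε M (Dg A a)) x

variable {N : Type u} [AddCommGroup N] [Module A N]

/-- From local fractions to sections over basic opens. -/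
def ψ (u : M →ₗ[A] N) (j : ι) : Mj j →ₗ[A] Sec N (Dg A (g j)) :=
  IsLocalizedModule.lift (Submonoid.powers (g j)) (φ j) ((ε N (Dg A (g j))).comp u) (isUnit_end_sec N (g j))

theorem ψ_apply (u : M →ₗ[A] N) (j : ι) (a : M) : ψ g φ u j (φ j a) = ε N (Dg A (g j)) (u a) :=
  IsLocalizedModule.lift_apply _ _ _ _ _

theorem ψ_comp {N' : Type u} [AddCommGroup N'] [Module A N'] (v : N →ₗ[A] N') (u : M →ₗ[A] N) (j : ι)
    (x : Mj j) : sm v (Dg A (g j)) (ψ g φ u j x) = ψ g φ (v.comp u) j x := by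
  obtain ⟨a, k, ha⟩ := exists_num g φ j x
  haveI := isLocalizedModule_ε N' (g j)
  refine cancel_pow (ε N' (Dg A (g j))) (g j) (k := k) ?_
  show g j ^ k • _ = g j ^ k • _
  rw [← map_smul, ← map_smul, ← map_smul, ha, ψ_apply, ψ_apply, sm_ε]
  rfl

theorem exists_pow_smul_of_ψ_eq_zero (u : M →ₗ[A] N) (j : ι) {x : Mj j} (h : ψ g φ u j x = 0) :
    ∃ (a : M) (k : ℕ), g j ^ k • x = φ j a ∧ u a = 0 := by
  obtain ⟨a, k, ha⟩ := exists_num g φ j x
  haveI := isLocalizedModule_ε N (g j)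
  have h0 : ε N (Dg A (g j)) (u a) = 0 := by rw [← ψ_apply g φ u, ← ha, map_smul, h, smul_zero]
  obtain ⟨⟨_, n, rfl⟩, hn⟩ := (IsLocalizedModule.eq_zero_iff (Submonoid.powers (g j)) (ε N (Dg A (g j)))).1 h0
  refine ⟨g j ^ n • a, n + k, ?_, ?_⟩
  · rw [map_smul, ← ha, smul_smul, pow_add]
  · rw [map_smul]; exact hn

theorem rs_rs' {U V W : (Sp A).Opens} (h : U ≤ V) (h' : V ≤ W) (s : Sec N W) :
    rs N h (rs N h' s) = rs N (h.trans h') s :=
  (congr($((modulesSpecToSheaf.obj (tilde (R := CommRingCat.of A) (ModuleCat.of A N))).presheaf.map_comp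
    (homOfLE h').op (homOfLE h).op).hom s)).symm

theorem exists_section (u : M →ₗ[A] N) (N₀ : Submodule A M) (hu : ∀ a ∈ N₀, u a = 0) {x : ∀ j, Mj j}
    (hx : CompatMod g φ N₀ x) {U : (Sp A).Opens} (hU : ∀ j, Dg A (g j) ≤ U) (hcov : U ≤ ⨆ j, Dg A (g j)) :
    ∃ s : Sec N U, ∀ j, rs N (hU j) s = ψ g φ u j (x j) := by
  let F := modulesSpecToSheaf.obj (tilde (R := CommRingCat.of A) (ModuleCat.of A N))
  obtain ⟨s, hs, -⟩ := TopCat.Sheaf.existsUnique_gluing' F (fun j => Dg A (g j)) U (fun j => homOfLE (hU j)) hcov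
    (fun j => ψ g φ u j (x j)) (fun i j => by
      show rs N (inf_le_left : Dg A (g i) ⊓ Dg A (g j) ≤ _) (ψ g φ u i (x i)) =
        rs N (inf_le_right : Dg A (g i) ⊓ Dg A (g j) ≤ _) (ψ g φ u j (x j))
      obtain ⟨a, k, ha⟩ := exists_num g φ i (x i)
      obtain ⟨b, l, hb⟩ := exists_num g φ j (x j)
      obtain ⟨n, hn⟩ := hx i j a b k l ha hb
      have hreg : IsSMulRegular (Sec N (Dg A (g i) ⊓ Dg A (g j))) (g i ^ k * g j ^ l * (g i * g j) ^ n) :=
        fun y z hyz => Scheme.Modules.isSMulRegular_of_le_basicOpen (R := CommRingCat.of A)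
        (M := tilde (R := CommRingCat.of A) (ModuleCat.of A N))
        (U := Dg A (g i) ⊓ Dg A (g j)) (f := g i ^ k * g j ^ l * (g i * g j) ^ n) (fun p hp => by
          intro hc
          rcases p.2.mem_or_mem hc with hc | hc
          · rcases p.2.mem_or_mem hc with hc | hc
            · exact hp.1 (p.2.mem_of_pow_mem _ hc)
            · exact hp.2 (p.2.mem_of_pow_mem _ hc)
          · rcases p.2.mem_or_mem (p.2.mem_of_pow_mem _ hc) with hc | hc
            · exact hp.1 hc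
            · exact hp.2 hc) hyz
      apply hreg
      show (g i ^ k * g j ^ l * (g i * g j) ^ n) • _ = (g i ^ k * g j ^ l * (g i * g j) ^ n) • _
      have e1 : (g i ^ k * g j ^ l * (g i * g j) ^ n) • rs N (inf_le_left : Dg A (g i) ⊓ Dg A (g j) ≤ _) (ψ g φ u i (x i)) =
          ε N (Dg A (g i) ⊓ Dg A (g j)) (((g i * g j) ^ n * g j ^ l) • u a) := by
        rw [show g i ^ k * g j ^ l * (g i * g j) ^ n = ((g i * g j) ^ n * g j ^ l) * g i ^ k by ring, mul_smul,
          ← map_smul, ← map_smul (ψ g φ u i), ha, ψ_apply, rs_ε, map_smul]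
      have e2 : (g i ^ k * g j ^ l * (g i * g j) ^ n) • rs N (inf_le_right : Dg A (g i) ⊓ Dg A (g j) ≤ _) (ψ g φ u j (x j)) =
          ε N (Dg A (g i) ⊓ Dg A (g j)) (((g i * g j) ^ n * g i ^ k) • u b) := by
        rw [show g i ^ k * g j ^ l * (g i * g j) ^ n = ((g i * g j) ^ n * g i ^ k) * g j ^ l by ring, mul_smul,
          ← map_smul, ← map_smul (ψ g φ u j), hb, ψ_apply, rs_ε, map_smul]
      rw [e1, e2, ← sub_eq_zero, ← map_sub, mul_smul, mul_smul, ← smul_sub, ← map_smul u, ← map_smul u,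
        ← map_sub, ← map_smul, hu _ hn, map_zero])
  exact ⟨s, hs⟩

theorem eq_of_rs_eq {U : (Sp A).Opens} (hU : ∀ j, Dg A (g j) ≤ U) (hcov : U ≤ ⨆ j, Dg A (g j))
    (s t : Sec N U) (h : ∀ j, rs N (hU j) s = rs N (hU j) t) : s = t :=
  TopCat.Sheaf.eq_of_locally_eq' (modulesSpecToSheaf.obj (tilde (R := CommRingCat.of A) (ModuleCat.of A N)))
    (fun j => Dg A (g j)) U (fun j => homOfLE (hU j)) hcov s t h

theorem span_singleton_pow_smul_top (f : A) (M : Type u) [AddCommGroup M] [Module A M] (n : ℕ) :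
    Ideal.span {f} ^ n • (⊤ : Submodule A M) = fp f M n := by
  rw [Ideal.span_singleton_pow]
  ext x
  rw [Submodule.ideal_span_singleton_smul, Submodule.mem_smul_pointwise_iff_exists, mem_fp]
  simp

theorem formalBij_self {Aj : ι → Type u} [∀ j, AddCommGroup (Aj j)] [∀ j, Module A (Aj j)]
    (ψ₀ : ∀ j, A →ₗ[A] Aj j) [∀ j, IsLocalizedModule (Submonoid.powers (g j)) (ψ₀ j)] (f : A)
    (h : Formal2.FormalCohBijective A (Ideal.span {f}) A 0 (LocCoh.puncturedOpen A (Ideal.span (Set.range g)))) :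
    FormalBij g ψ₀ f := by
  set U := LocCoh.puncturedOpen A (Ideal.span (Set.range g)) with hUdef
  have hU : ∀ j, Dg A (g j) ≤ U := fun j p hp hc => hp (hc (Ideal.subset_span ⟨j, rfl⟩))
  have hcov : U ≤ ⨆ j, Dg A (g j) := fun p hp => by
    obtain ⟨_, ⟨j, rfl⟩, hjp⟩ := Set.not_subset.1 (fun hc : Set.range g ⊆ p.asIdeal => hp (Ideal.span_le.2 hc))
    exact Opens.mem_iSup.2 ⟨j, hjp⟩
  let π := fun n => Formal2.quotPowπ A (Ideal.span {f}) A n
  have hπ : ∀ n a, a ∈ fp f A (n + 1) → π n a = 0 := fun n a ha => by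
    refine (Submodule.Quotient.mk_eq_zero _).2 ?_
    rw [span_singleton_pow_smul_top]
    exact ha
  have hinj : ∀ s : Sec A U, (∀ n, sm (π n) U s = 0) → s = 0 := fun s hs => by
    have h1 := h.1 ((h0 A U).symm s) 0 fun n => by
      rw [map_zero, HVmap_eq]
      refine (h0 _ U).injective ?_
      rw [h0_hm, AddEquiv.apply_symm_apply, hs]
      exact (map_zero _).symm
    rw [← (h0 A U).apply_symm_apply s, h1]
    exact map_zero _
  have hψinj : ∀ j (z : Aj j), ψ g ψ₀ LinearMap.id j z = 0 → z = 0 := fun j z hz => by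
    obtain ⟨a, k, ha, h0'⟩ := exists_pow_smul_of_ψ_eq_zero g ψ₀ LinearMap.id j hz
    rw [LinearMap.id_apply] at h0'
    rw [h0', map_zero] at ha
    exact eq_zero_of_pow_smul g ψ₀ j ha
  have hkill : ∀ n j (z : Aj j), z ∈ fp f (Aj j) (n + 1) → ψ g ψ₀ (π n) j z = 0 := fun n j z hz => by
    obtain ⟨w, rfl⟩ := hz
    show ψ g ψ₀ (π n) j (f ^ (n + 1) • w) = 0
    obtain ⟨a, k, ha⟩ := exists_num g ψ₀ j w
    haveI := isLocalizedModule_ε (Formal2.quotPow A (Ideal.span {f}) A n) (g j)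
    refine cancel_pow (ε _ (Dg A (g j))) (g j) (k := k) ?_
    show g j ^ k • _ = g j ^ k • _
    rw [smul_zero, ← map_smul, smul_comm, ha, ← map_smul, ψ_apply, hπ n (f ^ (n + 1) • a) ⟨a, rfl⟩, map_zero]
  refine ⟨fun x hx hdiv => ?_, fun y hy hyy => ?_⟩
  · obtain ⟨s, hs⟩ := exists_section g ψ₀ LinearMap.id ⊥ (fun a ha => by simpa using ha) hx hU hcov
    have hs0 : s = 0 := hinj s fun n => eq_of_rs_eq g hU hcov _ _ fun j => by
      rw [← sm_rs, hs, ψ_comp, map_zero, LinearMap.comp_id]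
      exact hkill n j _ (hdiv n j)
    refine funext fun j => hψinj j _ ?_
    rw [← hs j, hs0, map_zero]
  · choose t ht using fun n => exists_section g ψ₀ (π n) (fp f A (n + 1)) (hπ n) (hy n) hU hcov
    obtain ⟨x₀, hx₀⟩ := h.2 (fun n => (h0 _ U).symm (t n)) fun n => by
      rw [HVmap_eq]
      refine (h0 _ U).injective ?_
      rw [h0_hm, AddEquiv.apply_symm_apply, AddEquiv.apply_symm_apply]
      refine eq_of_rs_eq g hU hcov _ _ fun j => ?_
      rw [← sm_rs, ht, ht, ψ_comp]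
      have hc : (Formal2.quotPowTrans A (Ideal.span {f}) A n).comp (π (n + 1)) = π n := LinearMap.ext fun a => rfl
      rw [hc, ← sub_eq_zero, ← map_sub]
      exact hkill n j _ (hyy n j)
    have hs : ∀ n, sm (π n) U (h0 A U x₀) = t n := fun n => by
      have := congrArg (h0 _ U) (hx₀ n)
      rwa [HVmap_eq, h0_hm, AddEquiv.apply_symm_apply] at this
    have hψsurj : ∀ j (s : Sec A (Dg A (g j))), ∃ z : Aj j, ψ g ψ₀ LinearMap.id j z = s := fun j s => by
      haveI := isLocalizedModule_ε A (g j)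
      obtain ⟨⟨a, ⟨_, k, rfl⟩⟩, ha⟩ := IsLocalizedModule.surj (Submonoid.powers (g j)) (ε A (Dg A (g j))) s
      refine ⟨IsLocalizedModule.mk' (ψ₀ j) a (⟨g j ^ k, k, rfl⟩ : Submonoid.powers (g j)), ?_⟩
      refine cancel_pow (ε A (Dg A (g j))) (g j) (k := k) ?_
      show g j ^ k • _ = g j ^ k • s
      rw [← map_smul]
      refine Eq.trans ?_ ha.symm
      rw [show g j ^ k • IsLocalizedModule.mk' (ψ₀ j) a (⟨g j ^ k, k, rfl⟩ : Submonoid.powers (g j)) = ψ₀ j a from
        pow_smul_mk' (ψ₀ j) (g j) k a, ψ_apply]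
      rfl
    choose x hx using fun j => hψsurj j (rs A (hU j) (h0 A U x₀))
    refine ⟨x, fun i j a b k l ha hb => ?_, fun n j => ?_⟩
    · have e1 : ε A (Dg A (g i * g j)) (g j ^ l • a - g i ^ k • b) = 0 := by
        have hle₁ : Dg A (g i * g j) ≤ Dg A (g i) := fun p hp hc => hp (p.asIdeal.mul_mem_right _ hc)
        have hle₂ : Dg A (g i * g j) ≤ Dg A (g j) := fun p hp hc => hp (p.asIdeal.mul_mem_left _ hc)
        have ea : ε A (Dg A (g i * g j)) a = g i ^ k • rs A (hle₁.trans (hU i)) (h0 A U x₀) := by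
          rw [← rs_rs' hle₁ (hU i), ← hx, ← map_smul, ← map_smul (ψ g ψ₀ _ i), ha, ψ_apply, rs_ε]
          rfl
        have eb : ε A (Dg A (g i * g j)) b = g j ^ l • rs A (hle₂.trans (hU j)) (h0 A U x₀) := by
          rw [← rs_rs' hle₂ (hU j), ← hx, ← map_smul, ← map_smul (ψ g ψ₀ _ j), hb, ψ_apply, rs_ε]
          rfl
        rw [map_sub, map_smul, map_smul, ea, eb, smul_smul, smul_smul, mul_comm (g j ^ l), sub_self]
      haveI := isLocalizedModule_ε A (g i * g j)
      obtain ⟨⟨_, n, rfl⟩, hn⟩ :=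
        (IsLocalizedModule.eq_zero_iff (Submonoid.powers (g i * g j)) (ε A (Dg A (g i * g j)))).1 e1
      exact ⟨n, (Submodule.mem_bot _).2 hn⟩
    · obtain ⟨a, k, ha, h0'⟩ := exists_pow_smul_of_ψ_eq_zero g ψ₀ (π n) j (x := x j - y n j) (by
        rw [map_sub, ← ht, ← hs, ← sm_rs, ← hx, ψ_comp, LinearMap.comp_id, sub_self])
      have ha' : a ∈ fp f A (n + 1) := by
        rw [← span_singleton_pow_smul_top]
        exact (Submodule.Quotient.mk_eq_zero _).1 h0'
      obtain ⟨c, rfl⟩ := ha'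
      refine ⟨IsLocalizedModule.mk' (ψ₀ j) c (⟨g j ^ k, k, rfl⟩ : Submonoid.powers (g j)), ?_⟩
      refine cancel_pow (ψ₀ j) (g j) (k := k) ?_
      show g j ^ k • f ^ (n + 1) • IsLocalizedModule.mk' (ψ₀ j) c _ = g j ^ k • (x j - y n j)
      rw [ha, smul_comm, show g j ^ k • IsLocalizedModule.mk' (ψ₀ j) c (⟨g j ^ k, k, rfl⟩ : Submonoid.powers (g j)) =
        ψ₀ j c from pow_smul_mk' (ψ₀ j) (g j) k c, ← map_smul]
      rfl

end Sheaf

section Projective

/-- Transfer to a module which is locally on the cover a retract of a free one. -/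
theorem formalBij_of_retract {Aj : ι → Type u} [∀ j, AddCommGroup (Aj j)] [∀ j, Module A (Aj j)]
    (ψ₀ : ∀ j, A →ₗ[A] Aj j) [∀ j, IsLocalizedModule (Submonoid.powers (g j)) (ψ₀ j)] (f : A)
    (hA : FormalBij g ψ₀ f) (N : ι → ℕ) (k : ι → ℕ) (α : ∀ j, Fin (N j) → M →ₗ[A] A)
    (β : ∀ j, Fin (N j) → A →ₗ[A] M) (hαβ : ∀ j a, ∑ c, β j c (α j c a) = g j ^ k j • a) :
    FormalBij g φ f := by
  let up (j : ι) (c : Fin (N j)) (x : ∀ i, Mj i) : ∀ i, Aj i := fun i => mapj g φ ψ₀ (α j c) i (x i)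
  let dn (j : ι) (t : Fin (N j) → ∀ i, Aj i) : ∀ i, Mj i :=
    fun i => ∑ c, mapj g ψ₀ φ (β j c) i (t c i)
  have hdu : ∀ j (x : ∀ i, Mj i) (i : ι), dn j (fun c => up j c x) i = g j ^ k j • x i := fun j x i => by
    obtain ⟨a, l, ha⟩ := exists_num g φ i (x i)
    refine cancel_pow (φ i) (g i) (k := l) ?_
    show g i ^ l • dn j _ i = g i ^ l • g j ^ k j • x i
    rw [smul_comm, ha, ← map_smul, ← hαβ, map_sum, Finset.smul_sum]
    refine Finset.sum_congr rfl fun c _ => ?_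
    rw [← map_smul, ← map_smul, ha, mapj_apply, mapj_apply]
  have hinjM : ∀ x, CompatMod g φ ⊥ x → (∀ n j, x j ∈ fp f (Mj j) (n + 1)) → x = 0 := fun x hx hdiv => by
    funext j
    refine eq_zero_of_pow_smul g φ j (n := k j) ?_
    rw [← hdu j x j]
    refine Finset.sum_eq_zero fun c _ => ?_
    have h0 : up j c x = 0 := hA.1 _ (compatMod_map g φ ψ₀ (α j c) (fun a ha => by simp_all) hx)
      fun n i => map_mem_fp _ (hdiv n i)
    show mapj g ψ₀ φ (β j c) j (up j c x j) = 0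
    rw [h0]; exact map_zero _
  refine ⟨hinjM, fun y hy hyy => ?_⟩
  choose t ht ht' using fun j (c : Fin (N j)) => hA.2 (fun n => up j c (y n))
    (fun n => compatMod_map g φ ψ₀ (α j c) (fun a ha => map_mem_fp _ ha) (hy n))
    (fun n i => by
      show mapj g φ ψ₀ _ i _ - mapj g φ ψ₀ _ i _ ∈ _
      rw [← map_sub]; exact map_mem_fp _ (hyy n i))
  let s (j : ι) : ∀ i, Mj i := dn j (t j)
  have hsum : ∀ (j : ι) (S : Finset (Fin (N j))),
      CompatMod g φ ⊥ (fun i => ∑ c ∈ S, mapj g ψ₀ φ (β j c) i (t j c i)) := by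
    classical
    intro j S
    induction S using Finset.induction with
    | empty =>
      intro i i' a b p q ha hb
      simp only [Finset.sum_empty, smul_zero] at ha hb
      obtain ⟨n, hn⟩ := exists_pow_smul_eq_zero g φ i ha.symm
      obtain ⟨m, hm⟩ := exists_pow_smul_eq_zero g φ i' hb.symm
      refine ⟨n + m, (Submodule.mem_bot _).2 ?_⟩
      have key : (g i * g i') ^ (n + m) • (g i' ^ q • a - g i ^ p • b) =
          (g i ^ m * g i' ^ (n + m + q)) • (g i ^ n • a) - (g i ^ (n + m + p) * g i' ^ n) • (g i' ^ m • b) := by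
        match_scalars <;> ring
      rw [key, hn, hm, smul_zero, smul_zero, sub_zero]
    | insert c S hc ih =>
      have h1 := compatMod_map g ψ₀ φ (β j c) (N' := ⊥) (fun a ha => by simp_all) (ht j c)
      have h2 : CompatMod g φ ⊥ ((fun i => mapj g ψ₀ φ (β j c) i (t j c i)) -
          ((fun i => ∑ c ∈ S, mapj g ψ₀ φ (β j c) i (t j c i)) - (fun i => ∑ c ∈ S, mapj g ψ₀ φ (β j c) i (t j c i)) -
            (fun i => ∑ c ∈ S, mapj g ψ₀ φ (β j c) i (t j c i)))) :=
        compatMod_sub g φ ⊥ h1 (compatMod_sub g φ ⊥ (compatMod_sub g φ ⊥ ih ih) ih)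
      convert h2 using 1
      funext i
      rw [Finset.sum_insert hc]
      simp [Pi.sub_apply]
  have hs : ∀ j, CompatMod g φ ⊥ (s j) := fun j => hsum j Finset.univ
  have hs' : ∀ n j i, s j i - g j ^ k j • y n i ∈ fp f (Mj i) (n + 1) := fun n j i => by
    rw [← hdu j (y n) i]
    show (∑ c, _) - (∑ c, _) ∈ _
    rw [← Finset.sum_sub_distrib]
    refine Submodule.sum_mem _ fun c _ => ?_
    rw [← map_sub]
    exact map_mem_fp _ (ht' j c n i)
  have hsmul : ∀ (r : A) (x : ∀ i, Mj i), CompatMod g φ ⊥ x → CompatMod g φ ⊥ (fun i => r • x i) :=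
    fun r x hx => by
      choose a l ha using fun i => exists_num g φ i (x i)
      refine compatMod_of_num g φ ⊥ _ (fun i => r • a i) l (fun i => by rw [map_smul, smul_comm, ha]) fun i i' => ?_
      obtain ⟨n, hn⟩ := hx i i' _ _ _ _ (ha i) (ha i')
      refine ⟨n, (Submodule.mem_bot _).2 ?_⟩
      rw [smul_comm (g i' ^ _) r, smul_comm (g i ^ _) r, ← smul_sub, smul_comm, (Submodule.mem_bot _).1 hn, smul_zero]
  have hcross : ∀ i j l, g i ^ k i • s j l = g j ^ k j • s i l := fun i j l => by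
    refine sub_eq_zero.1 (congrFun (hinjM _ (compatMod_sub g φ ⊥ (hsmul (g i ^ k i) _ (hs j))
      (hsmul (g j ^ k j) _ (hs i))) fun n l => ?_) l)
    show g i ^ k i • s j l - g j ^ k j • s i l ∈ _
    have := sub_mem (Submodule.smul_mem _ (g i ^ k i) (hs' n j l)) (Submodule.smul_mem _ (g j ^ k j) (hs' n i l))
    rwa [smul_sub, smul_sub, smul_comm (g i ^ k i) (g j ^ k j) (y n l), sub_sub_sub_cancel_right] at this
  choose a l ha using fun j => exists_num g φ j (s j j)
  let x : ∀ j, Mj j := fun j => IsLocalizedModule.mk' (φ j) (a j) (⟨g j ^ (k j + l j), _, rfl⟩ : Submonoid.powers (g j))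
  have hx : ∀ j, g j ^ k j • x j = s j j := fun j => by
    refine cancel_pow (φ j) (g j) (k := l j) ?_
    show g j ^ l j • g j ^ k j • x j = g j ^ l j • s j j
    rw [smul_smul, ← pow_add, add_comm, ha]
    exact pow_smul_mk' (φ j) (g j) _ _
  refine ⟨x, compatMod_of_num g φ ⊥ x a (fun j => k j + l j)
    (fun j => pow_smul_mk' (φ j) (g j) _ _) fun i j => ?_, fun n j => ?_⟩
  · obtain ⟨b, p, hb⟩ := exists_num g φ i (s j i)
    obtain ⟨n, hn⟩ := hs j i j b (a j) p (l j) hb (ha j)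
    obtain ⟨m, hm⟩ := exists_pow_smul_eq_zero g φ i
      (a := g i ^ (k i + l i) • b - (g i ^ p * g j ^ k j) • a i) (by
        rw [map_sub, map_smul, map_smul, ← hb, ← ha i, smul_smul, smul_smul, pow_add]
        rw [show g i ^ k i * g i ^ l i * g i ^ p = (g i ^ p * g i ^ l i) * g i ^ k i by ring, mul_smul, hcross,
          smul_smul, show g i ^ p * g i ^ l i * g j ^ k j = g i ^ p * g j ^ k j * g i ^ l i by ring, sub_self])
    refine ⟨n + m + p, (Submodule.mem_bot _).2 ?_⟩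
    have key : (g i * g j) ^ (n + m + p) • (g j ^ (k j + l j) • a i - g i ^ (k i + l i) • a j) =
        (g i ^ (m + k i + l i) * g j ^ (m + p)) • ((g i * g j) ^ n • (g j ^ l j • b - g i ^ p • a j)) -
        (g i ^ n * g j ^ (n + m + p + l j)) • (g i ^ m • (g i ^ (k i + l i) • b - (g i ^ p * g j ^ k j) • a i)) := by
      match_scalars <;> ring
    rw [key, (Submodule.mem_bot _).1 hn, hm, smul_zero, smul_zero, sub_zero]
  · have h1 := hs' n j j
    rw [← hx, ← smul_sub] at h1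
    obtain ⟨z, hz⟩ := h1
    obtain ⟨c, q, hc⟩ := exists_num g φ j z
    refine ⟨IsLocalizedModule.mk' (φ j) c (⟨g j ^ (q + k j), _, rfl⟩ : Submonoid.powers (g j)), ?_⟩
    refine cancel_pow (φ j) (g j) (k := (q + k j)) ?_
    show g j ^ (q + k j) • f ^ (n + 1) • IsLocalizedModule.mk' (φ j) c _ = g j ^ (q + k j) • (x j - y n j)
    rw [smul_comm, pow_smul_mk' (φ j) (g j) (q + k j) c, ← hc, smul_comm,
      show f ^ (n + 1) • z = g j ^ k j • (x j - y n j) from hz, smul_smul, ← pow_add]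

end Projective

end Groth.Agent.HyperFEt
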