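import Groth.Agent.FlatGlueFEt.Main

/-! A finite scheme over an open extends if it does after a flat extension which is dense near the complement. -/

set_option autoImplicit false
set_option backward.isDefEq.respectTransparency false
set_option linter.style.haveILetI false

universe u

open CategoryTheory CategoryTheory.Limits AlgebraicGeometry TopologicalSpace Opposite

namespace Groth.Agent.HyperFEt

open FlatGlueFEt

/-- Finiteness descends along a faithfully flat pushout. -/
theorem finite_of_isPushout {R R' B C : CommRingCat.{u}} {t : R ⟶ R'} {g : R ⟶ B} {a : R' ⟶ C}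
    {b : B ⟶ C} (h : IsPushout t g a b) (ht : t.hom.FaithfullyFlat) (h1 : a.hom.Finite) : g.hom.Finite := by
  letI : Algebra R R' := t.hom.toAlgebra
  letI : Algebra R B := g.hom.toAlgebra
  haveI : Module.FaithfullyFlat R R' := ht
  let P := CommRingCat.isPushout_tensorProduct R R' B
  let e := (h.isoPushout ≪≫ P.isoPushout.symm)
  have he : a ≫ e.hom = CommRingCat.ofHom Algebra.TensorProduct.includeLeftRingHom := by
    simp [e, P]
  have hf1 : (algebraMap R' (TensorProduct R R' B)).Finite := by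
    have : (CommRingCat.ofHom (Algebra.TensorProduct.includeLeftRingHom (R := R) (A := R') (B := B))).hom =
        e.hom.hom.comp a.hom := by rw [← he]; rfl
    show (CommRingCat.ofHom (Algebra.TensorProduct.includeLeftRingHom (R := R) (A := R') (B := B))).hom.Finite
    rw [this]
    exact RingHom.Finite.comp (RingHom.Finite.of_surjective _
      (ConcreteCategory.bijective_of_isIso e.hom).surjective) h1
  rw [RingHom.finite_algebraMap] at hf1
  exact show Module.Finite R B from Module.Finite.of_finite_tensorProduct_of_faithfullyFlat R'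

/-- A finite scheme over an open extends if it does after a dense faithfully flat extension. -/
theorem exists_finite_extension {S T : Scheme.{u}} [IsAffine S] [IsAffine T] [IsLocallyNoetherian S] (t : T ⟶ S)
    [Flat t] [Surjective t] (U : S.Opens) [QuasiCompact U.ι] (I : Ideal Γ(S, ⊤))
    (hI : ∀ r ∈ I, S.basicOpen r ≤ U)
    (happ : ∀ (n : ℕ) (b : Γ(T, ⊤)), ∃ x : Γ(S, ⊤), b - t.appTop.hom x ∈ (I ^ n).map t.appTop.hom)
    (V : Over (U : Scheme.{u})) [AlgebraicGeometry.IsFinite V.hom] {Z : Scheme.{u}} (z : Z ⟶ T) [AlgebraicGeometry.IsFinite z]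
    (eL : pullback V.hom (pullback.fst U.ι t) ⟶ pullback z (pullback.snd U.ι t)) [IsIso eL]
    (hw : eL ≫ pullback.snd z (pullback.snd U.ι t) = pullback.snd V.hom (pullback.fst U.ι t)) :
    ∃ (Y : Scheme.{u}) (π : Y ⟶ S) (qY : Z ⟶ Y) (l : V.left ⟶ pullback π U.ι),
      IsFinite π ∧ IsPullback qY z π t ∧ IsIso l ∧ l ≫ pullback.snd π U.ι = V.hom ∧
        eL ≫ pullback.fst z (pullback.snd U.ι t) ≫ qY =
          pullback.fst V.hom (pullback.fst U.ι t) ≫ l ≫ pullback.fst π U.ι := by
  haveI : IsAffine Z := isAffine_of_isAffineHom z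
  haveI hN : IsNoetherianRing Γ(S, ⊤) := IsLocallyNoetherian.component_noetherian ⟨⊤, isAffineOpen_top S⟩
  let g : V.left ⟶ S := V.hom ≫ U.ι
  haveI : QuasiCompact g := inferInstanceAs (QuasiCompact (V.hom ≫ U.ι))
  haveI : QuasiSeparated g := inferInstanceAs (QuasiSeparated (V.hom ≫ U.ι))
  haveI : CompactSpace V.left := QuasiCompact.compactSpace_of_compactSpace g
  haveI : QuasiSeparatedSpace V.left := quasiSeparatedSpace_of_quasiSeparated g
  let V' := pullback V.hom (pullback.fst U.ι t)
  let pV : V' ⟶ V.left := pullback.fst V.hom (pullback.fst U.ι t)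
  let s' : V' ⟶ pullback U.ι t := pullback.snd V.hom (pullback.fst U.ι t)
  let q : V' ⟶ T := s' ≫ pullback.snd U.ι t
  have H : IsPullback pV q g t :=
    (IsPullback.of_hasPullback V.hom (pullback.fst U.ι t)).paste_vert (IsPullback.of_hasPullback U.ι t)
  haveI : QuasiCompact q := MorphismProperty.of_isPullback H inferInstance
  haveI : CompactSpace V' := QuasiCompact.compactSpace_of_compactSpace q
  let j' : V' ⟶ Z := eL ≫ pullback.fst z (pullback.snd U.ι t)
  have hj' : IsPullback j' s' z (pullback.snd U.ι t) :=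
    (IsPullback.of_hasPullback z (pullback.snd U.ι t)).of_iso (asIso eL).symm (Iso.refl _) (Iso.refl _)
      (Iso.refl _) (by simp [j']) (by simp [hw, s']) (by simp) (by simp)
  haveI : IsOpenImmersion j' := MorphismProperty.of_isPullback hj'.flip inferInstance
  have hjq : j' ≫ z = q := hj'.w
  have hrange : ∀ r ∈ I, Z.basicOpen (z.appTop (t.appTop r)) ≤ j'.opensRange := by
    intro r hr
    rw [← Scheme.preimage_basicOpen_top z, ← Scheme.preimage_basicOpen_top t]
    have e1 : (pullback.snd U.ι t).opensRange = t ⁻¹ᵁ U := by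
      rw [PurePairDesc.opensRange_of_isPullback (IsPullback.of_hasPullback U.ι t), U.opensRange_ι]
    rw [PurePairDesc.opensRange_of_isPullback hj'.flip, e1]
    exact Scheme.Hom.preimage_mono _ (Scheme.Hom.preimage_mono _ (hI r hr))
  have hW : IsPushout t.appTop g.appTop q.appTop pV.appTop := by
    have hP := (isIso_pushoutSection_iff H (US := ⊤) (UT := ⊤) (UX := ⊤) le_top le_top (UY := ⊤) (by simp)).1
      (isIso_pushoutSection_of_isQuasiSeparated_of_flat_right H le_top le_top (by simp) (isAffineOpen_top S)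
        (isAffineOpen_top T) isCompact_univ isQuasiSeparated_univ)
    simpa [Scheme.Hom.appTop, Scheme.Hom.app_eq_appLE] using hP.flip
  have hρ : z.appTop ≫ j'.appTop = q.appTop := by rw [← Scheme.Hom.comp_appTop, hjq]
  have ht : t.appTop.hom.FaithfullyFlat :=
    (Flat.flat_and_surjective_iff_faithfullyFlat_of_isAffine (f := t)).1 ⟨inferInstance, inferInstance⟩
  have hcoker : ∀ w : Γ(V', ⊤), ∃ n : ℕ, ∀ r ∈ I ^ n, ∃ y,
      j'.appTop.hom y = q.appTop.hom (t.appTop.hom r) * w := by
    intro w
    let φ : Γ(S, ⊤) →+* Γ(V', ⊤) := q.appTop.hom.comp t.appTop.hom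
    let J : Ideal Γ(S, ⊤) :=
      { carrier := {r | ∃ y, j'.appTop.hom y = φ r * w}
        zero_mem' := ⟨0, by simp⟩
        add_mem' := fun ⟨y, hy⟩ ⟨y', hy'⟩ => ⟨y + y', by rw [map_add, hy, hy', map_add, add_mul]⟩
        smul_mem' := fun c r ⟨y, hy⟩ => ⟨z.appTop (t.appTop c) * y, by
          rw [map_mul, hy, ← CategoryTheory.comp_apply z.appTop j'.appTop, hρ, smul_eq_mul, map_mul, mul_assoc]
          rfl⟩ }
    obtain ⟨n, hn⟩ := Ideal.exists_pow_le_of_le_radical_of_fg (I := I) (J := J) (fun r hr => by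
      obtain ⟨n, y, hy⟩ := (sections_openImmersion j' _ (hrange r hr)).2 w
      refine ⟨n, y, hy.trans ?_⟩
      rw [map_pow, map_pow, ← CategoryTheory.comp_apply z.appTop j'.appTop, hρ]
      rfl) I.fg_of_isNoetherianRing
    exact ⟨n, fun r hr => hn hr⟩
  have hker : ∀ y, j'.appTop.hom y = 0 → ∃ n : ℕ, ∀ r ∈ I ^ n, z.appTop.hom (t.appTop.hom r) * y = 0 := by
    intro y hy
    let J : Ideal Γ(S, ⊤) :=
      { carrier := {r | z.appTop.hom (t.appTop.hom r) * y = 0}
        zero_mem' := by simp
        add_mem' := fun {a b} (ha : _ = 0) (hb : _ = 0) => by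
          show z.appTop.hom (t.appTop.hom (a + b)) * y = 0
          rw [map_add, map_add, add_mul, ha, hb, add_zero]
        smul_mem' := fun c r (hr : _ = 0) => by
          show z.appTop.hom (t.appTop.hom (c * r)) * y = 0
          rw [map_mul, map_mul, mul_assoc, hr, mul_zero] }
    obtain ⟨n, hn⟩ := Ideal.exists_pow_le_of_le_radical_of_fg (I := I) (J := J) (fun r hr => by
      obtain ⟨n, hn⟩ := (sections_openImmersion j' _ (hrange r hr)).1 y hy
      refine ⟨n, ?_⟩
      show z.appTop.hom (t.appTop.hom (r ^ n)) * y = 0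
      rw [map_pow, map_pow]; exact hn) I.fg_of_isNoetherianRing
    exact ⟨n, fun r hr => hn hr⟩
  obtain ⟨C, φ, p, qC, hC, hφp, hqρ⟩ :=
    exists_glue t.appTop ht.flat z.appTop g.appTop hW j'.appTop hρ I happ hcoker hker
  have hfin : φ.hom.Finite := finite_of_isPushout hC ht
    (by simpa [Scheme.Hom.appTop] using IsFinite.finite_app (f := z) ⊤ (isAffineOpen_top T))
  let π : Spec C ⟶ S := Spec.map φ ≫ S.isoSpec.inv
  haveI : IsFinite (Spec.map φ) := (IsFinite.SpecMap_iff _).mpr hfin
  haveI hπ : IsFinite π := inferInstanceAs (IsFinite (Spec.map φ ≫ S.isoSpec.inv))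
  let j : V.left ⟶ Spec C := V.left.toSpecΓ ≫ Spec.map p
  have hjπ : j ≫ π = g := by
    show (V.left.toSpecΓ ≫ Spec.map p) ≫ Spec.map φ ≫ S.isoSpec.inv = g
    rw [Category.assoc, ← Spec.map_comp_assoc, hφp, ← Category.assoc, ← Scheme.toSpecΓ_naturality,
      Category.assoc, ← Scheme.isoSpec_hom, Iso.hom_inv_id, Category.comp_id]
  let qY : Z ⟶ Spec C := Z.isoSpec.hom ≫ Spec.map qC
  have sB : IsPullback qY z π t := by
    refine (isPullback_SpecMap_of_isPushout _ _ _ _ hC).flip.of_iso Z.isoSpec.symm (Iso.refl _)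
      T.isoSpec.symm S.isoSpec.symm ?_ ?_ ?_ ?_
    · simp [qY]
    · rw [Iso.symm_hom, Iso.symm_hom, Scheme.isoSpec_inv_naturality]
    · simp [π]
    · rw [Iso.symm_hom, Iso.symm_hom, Scheme.isoSpec_inv_naturality]
  have hfac : j' ≫ qY = pV ≫ j := by
    show j' ≫ Z.toSpecΓ ≫ Spec.map qC = pV ≫ V.left.toSpecΓ ≫ Spec.map p
    rw [← Category.assoc, Scheme.toSpecΓ_naturality, Category.assoc, ← Spec.map_comp, hqρ, Spec.map_comp,
      ← Category.assoc, ← Scheme.toSpecΓ_naturality, Category.assoc]
  have big := hj'.paste_horiz sB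
  rw [hfac, ← pullback.condition] at big
  have sP : IsPullback (pullback.fst π U.ι) (pullback.snd π U.ι) π U.ι := .of_hasPullback _ _
  let l := sP.lift j V.hom hjπ
  have hlj : l ≫ pullback.fst π U.ι = j := sP.lift_fst _ _ _
  have hlh : l ≫ pullback.snd π U.ι = V.hom := sP.lift_snd _ _ _
  have hwV : pV ≫ V.hom = s' ≫ pullback.fst U.ι t := pullback.condition
  have big' : IsPullback ((pV ≫ l) ≫ pullback.fst π U.ι) s' π (pullback.fst U.ι t ≫ U.ι) := by
    rw [Category.assoc, hlj]; exact big
  have sU : IsPullback (pV ≫ l) s' (pullback.snd π U.ι) (pullback.fst U.ι t) :=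
    IsPullback.of_right big' (by rw [Category.assoc, hlh, hwV]) sP
  have sV : IsPullback pV (𝟙 V') l (pV ≫ l) := by
    refine IsPullback.of_bot (v₂₁ := s') (v₂₂ := pullback.snd π U.ι) ?_ (by simp) sU
    rw [Category.id_comp, hlh]
    exact IsPullback.of_hasPullback V.hom (pullback.fst U.ι t)
  haveI hl : IsIso l :=
    MorphismProperty.of_isPullback_of_descendsAlong (P := MorphismProperty.isomorphisms Scheme.{u})
      (Q := @Surjective ⊓ @Flat ⊓ @QuasiCompact) sV.flip
      (MorphismProperty.of_isPullback sU.flip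
        (⟨⟨inferInstance, inferInstance⟩, inferInstance⟩ :
          (@Surjective ⊓ @Flat ⊓ @QuasiCompact : MorphismProperty Scheme.{u}) (pullback.fst U.ι t)))
      (inferInstanceAs (IsIso (𝟙 V')))
  exact ⟨Spec C, π, qY, l, hπ, sB, hl, hlh, by rw [hlj, ← Category.assoc]; exact hfac⟩

end Groth.Agent.HyperFEt
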