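import Groth.Prelude.Def_FEt
import Groth.Agent.HyperFEt.FinExtend
import Groth.Agent.RegLocal.Completion
import Mathlib.RingTheory.TensorProduct.Quotient

/-! The completion of a noetherian local ring as a base change. -/

set_option autoImplicit false
set_option linter.style.haveILetI false
set_option backward.isDefEq.respectTransparency false

universe u

open CategoryTheory CategoryTheory.Limits AlgebraicGeometry TensorProduct

noncomputable section

namespace Groth.Agent.HyperFEt

variable (A : Type u) [CommRing A] [IsLocalRing A]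

/-- The completion of a local ring. -/
abbrev Ah : Type u := AdicCompletion (IsLocalRing.maximalIdeal A) A

/-- The spectrum of the completion. -/
abbrev tH : Spec (CommRingCat.of (Ah A)) ⟶ Spec (CommRingCat.of A) :=
  Spec.map (CommRingCat.ofHom (algebraMap A (Ah A)))

/-- The inclusion of the closed point. -/
abbrev cP : Spec (CommRingCat.of (A ⧸ IsLocalRing.maximalIdeal A)) ⟶ Spec (CommRingCat.of A) :=
  Spec.map (CommRingCat.ofHom (algebraMap A (A ⧸ IsLocalRing.maximalIdeal A)))

variable [IsNoetherianRing A]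

theorem faithfullyFlat_Ah : Module.FaithfullyFlat A (Ah A) :=
  RegLocal.faithfullyFlat_completion A _ (IsLocalRing.maximalIdeal.isMaximal A).ne_top

instance surjective_tH : Surjective (tH A) :=
  haveI := faithfullyFlat_Ah A
  ⟨fun x => PrimeSpectrum.comap_surjective_of_faithfullyFlat x⟩

instance flat_tH : Flat (tH A) :=
  haveI := faithfullyFlat_Ah A
  Flat.SpecMap_iff.mpr (inferInstanceAs (Module.Flat A (Ah A)))

theorem exists_approx (n : ℕ) (b : Ah A) :
    ∃ a : A, b - algebraMap A (Ah A) a ∈ (IsLocalRing.maximalIdeal A ^ n).map (algebraMap A (Ah A)) := by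
  obtain ⟨c, hc⟩ := Submodule.Quotient.mk_surjective _ (b.val n)
  refine ⟨c, ?_⟩
  have hmem : b - algebraMap A (Ah A) c ∈ IsLocalRing.maximalIdeal A ^ n • (⊤ : Submodule A (Ah A)) := by
    rw [AdicCompletion.pow_smul_top_eq_ker_eval (IsLocalRing.maximalIdeal A).fg_of_isNoetherianRing,
      LinearMap.mem_ker, map_sub, sub_eq_zero]
    exact hc.symm
  rwa [Ideal.smul_top_eq_map, Submodule.restrictScalars_mem] at hmem

/-- The closed fibre of the completion is the closed point. -/
instance isClosedImmersion_closedFibre : IsClosedImmersion (pullback.snd (tH A) (cP A)) := by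
  let k := A ⧸ IsLocalRing.maximalIdeal A
  have hsurj : Function.Surjective (Algebra.TensorProduct.includeRight (R := A) (A := Ah A) (B := k)) := by
    intro x
    induction x with
    | zero => exact ⟨0, map_zero _⟩
    | add x y hx hy =>
      obtain ⟨a, rfl⟩ := hx
      obtain ⟨b, rfl⟩ := hy
      exact ⟨a + b, map_add _ _ _⟩
    | tmul b q =>
      obtain ⟨a, ha⟩ := exists_approx A 1 b
      refine ⟨a • q, ?_⟩
      have hz : ∀ z ∈ (IsLocalRing.maximalIdeal A ^ 1).map (algebraMap A (Ah A)), z ⊗ₜ[A] q = 0 := by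
        intro z hz
        induction hz using Submodule.span_induction with
        | mem w hw =>
          obtain ⟨m, hm, rfl⟩ := hw
          rw [Algebra.algebraMap_eq_smul_one, TensorProduct.smul_tmul]
          obtain ⟨q, rfl⟩ := Ideal.Quotient.mk_surjective q
          rw [show m • (Ideal.Quotient.mk (IsLocalRing.maximalIdeal A)) q = 0 from
            Ideal.Quotient.eq_zero_iff_mem.2 (Ideal.mul_mem_right _ _ (by simpa using hm)), TensorProduct.tmul_zero]
        | zero => exact TensorProduct.zero_tmul _ _
        | add u v _ _ hu hv => rw [TensorProduct.add_tmul, hu, hv, add_zero]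
        | smul r u _ hu => rw [smul_eq_mul, ← smul_eq_mul, ← TensorProduct.smul_tmul', hu, smul_zero]
      have := hz _ ha
      rw [TensorProduct.sub_tmul, sub_eq_zero] at this
      rw [this, Algebra.TensorProduct.includeRight_apply, Algebra.algebraMap_eq_smul_one, TensorProduct.smul_tmul]
  rw [← pullbackSpecIso_hom_snd A (Ah A) k]
  exact MorphismProperty.RespectsIso.precomp (P := @IsClosedImmersion) _ _
    (IsClosedImmersion.spec_of_surjective _ hsurj)

/-- The base change of the completion is injective over the closed point. -/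
theorem injective_over_closedPoint {Y Z : Scheme.{u}} {qY : Z ⟶ Y} {z : Z ⟶ Spec (CommRingCat.of (Ah A))}
    {π : Y ⟶ Spec (CommRingCat.of A)} (h : IsPullback qY z π (tH A)) {z₁ z₂ : Z} (he : qY z₁ = qY z₂)
    (hc : π (qY z₁) = IsLocalRing.closedPoint A) : z₁ = z₂ := by
  let a := pullback.fst π (cP A)
  let sQ := pullback.snd qY a
  have H0 : IsPullback (pullback.fst qY a ≫ z) sQ (tH A) (pullback.snd π (cP A) ≫ cP A) := by
    have := (IsPullback.of_hasPullback qY a).paste_horiz h.flip
    rw [show a ≫ π = pullback.snd π (cP A) ≫ cP A from pullback.condition] at this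
    exact this
  let g : pullback qY a ⟶ pullback (tH A) (cP A) := pullback.lift (pullback.fst qY a ≫ z)
    (sQ ≫ pullback.snd π (cP A)) (by rw [H0.w, Category.assoc])
  have H1 : IsPullback g sQ (pullback.snd (tH A) (cP A)) (pullback.snd π (cP A)) :=
    IsPullback.of_right (h₁₂ := pullback.fst (tH A) (cP A))
      (by
        rw [pullback.lift_fst]
        exact H0) (pullback.lift_snd _ _ _) (IsPullback.of_hasPullback (tH A) (cP A))
  haveI : IsClosedImmersion sQ := MorphismProperty.of_isPullback H1 inferInstance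
  have hrc : π (qY z₁) ∈ Set.range (cP A) := by
    rw [hc]
    refine (range_comap_of_surjective _ _ Ideal.Quotient.mk_surjective).ge ?_
    rw [Ideal.mk_ker, PrimeSpectrum.mem_zeroLocus]
    exact le_rfl
  obtain ⟨k, hk⟩ := hrc
  obtain ⟨y, hy1, -⟩ := Scheme.Pullback.exists_preimage_pullback (f := π) (g := cP A) (qY z₁) k hk.symm
  obtain ⟨w₁, hw₁, hw₁'⟩ := Scheme.Pullback.exists_preimage_pullback (f := qY) (g := a) z₁ y hy1.symm
  obtain ⟨w₂, hw₂, hw₂'⟩ := Scheme.Pullback.exists_preimage_pullback (f := qY) (g := a) z₂ y (he ▸ hy1.symm)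
  have : w₁ = w₂ := sQ.isClosedEmbedding.injective (hw₁'.trans hw₂'.symm)
  rw [← hw₁, ← hw₂, this]

/-- Finite schemes over the punctured spectrum which extend over the completion extend. -/
theorem exists_finite_extension_completion (V : Over (FEt.puncturedSpec A : Scheme.{u})) [IsFinite V.hom]
    {Z : Scheme.{u}} (z : Z ⟶ Spec (CommRingCat.of (Ah A))) [IsFinite z]
    (eL : pullback V.hom (pullback.fst (FEt.puncturedSpec A).ι (tH A)) ⟶
      pullback z (pullback.snd (FEt.puncturedSpec A).ι (tH A))) [IsIso eL]
    (hw : eL ≫ pullback.snd z (pullback.snd (FEt.puncturedSpec A).ι (tH A)) =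
      pullback.snd V.hom (pullback.fst (FEt.puncturedSpec A).ι (tH A))) :
    ∃ (Y : Scheme.{u}) (π : Y ⟶ Spec (CommRingCat.of A)) (qY : Z ⟶ Y)
      (l : V.left ⟶ pullback π (FEt.puncturedSpec A).ι),
      IsFinite π ∧ IsPullback qY z π (tH A) ∧ IsIso l ∧ l ≫ pullback.snd π (FEt.puncturedSpec A).ι = V.hom ∧
        eL ≫ pullback.fst z (pullback.snd (FEt.puncturedSpec A).ι (tH A)) ≫ qY =
          pullback.fst V.hom (pullback.fst (FEt.puncturedSpec A).ι (tH A)) ≫ l ≫
            pullback.fst π (FEt.puncturedSpec A).ι := by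
  haveI : IsNoetherianRing (CommRingCat.of A) := inferInstanceAs (IsNoetherianRing A)
  let ι := (Scheme.ΓSpecIso (CommRingCat.of A)).inv
  let ιh := (Scheme.ΓSpecIso (CommRingCat.of (Ah A))).inv
  have hnat : ∀ a : A, (tH A).appTop.hom (ι a) = ιh (algebraMap A (Ah A) a) := fun a => by
    have := Scheme.ΓSpecIso_inv_naturality (CommRingCat.ofHom (algebraMap A (Ah A)))
    exact (congrArg (fun k => k.hom a) this).symm
  refine exists_finite_extension (tH A) (FEt.puncturedSpec A) ((IsLocalRing.maximalIdeal A).map ι.hom)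
    (fun r hr x hx => ?_) (fun n b => ?_) V z eL hw
  · obtain ⟨a, ha, rfl⟩ := (Ideal.mem_map_iff_of_surjective ι.hom
      (ConcreteCategory.bijective_of_isIso ι).surjective).mp hr
    rw [basicOpen_eq_of_affine'] at hx
    show x ∈ ({IsLocalRing.closedPoint A}ᶜ : Set (PrimeSpectrum A))
    intro he
    rw [Set.mem_singleton_iff] at he
    subst he
    apply hx
    show (Scheme.ΓSpecIso (CommRingCat.of A)).hom (ι a) ∈ IsLocalRing.maximalIdeal A
    rw [← CategoryTheory.comp_apply, Iso.inv_hom_id]
    exact ha
  · obtain ⟨b, rfl⟩ := (ConcreteCategory.bijective_of_isIso ιh).surjective b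
    obtain ⟨c, hc⟩ := exists_approx A n b
    refine ⟨ι c, ?_⟩
    have h2 := Ideal.mem_map_of_mem ιh.hom hc
    rw [hnat, ← map_sub, ← Ideal.map_pow, Ideal.map_map]
    rw [Ideal.map_map] at h2
    convert h2 using 2
    ext a
    exact hnat a

end Groth.Agent.HyperFEt
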