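import Groth.Agent.HyperFEt.CompletionBase
import Groth.Agent.HyperFEt.Clopen
import Groth.Agent.HyperFEt.CompleteFF
import Groth.Agent.Hensel.Idempotent

/-! Descending full faithfulness from the completion of a henselian pair. -/

set_option autoImplicit false
set_option linter.style.haveILetI false
set_option backward.isDefEq.respectTransparency false

universe u

open CategoryTheory CategoryTheory.Limits AlgebraicGeometry TopologicalSpace

noncomputable section

namespace Groth.Agent.HyperFEt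

/-- The base change of the closed immersion to the completion. -/
abbrev r0' (A : Type u) [CommRing A] [IsLocalRing A] (f : A) :
    pullback (pullback.fst (FEt.puncturedSpec A).ι (tH A)) (r0 A f) ⟶ pullback (FEt.puncturedSpec A).ι (tH A) :=
  pullback.fst (pullback.fst (FEt.puncturedSpec A).ι (tH A)) (r0 A f)

variable (A : Type u) [CommRing A] [IsLocalRing A] [IsNoetherianRing A] (f : A)

theorem meetsClopens_descend (h : FEtLib.MeetsClopens (r0' A f)) : FEtLib.MeetsClopens (r0 A f) := by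
  intro S hS ⟨x, hx⟩
  let qU := pullback.fst (FEt.puncturedSpec A).ι (tH A)
  haveI : Surjective qU := MorphismProperty.pullback_fst (P := @Surjective) _ _ inferInstance
  obtain ⟨x₁, hx₁⟩ := qU.surjective x
  obtain ⟨u₁, hu⟩ := h _ (hS.preimage qU.continuous) ⟨x₁, show qU x₁ ∈ S by rw [hx₁]; exact hx⟩
  refine ⟨pullback.snd qU (r0 A f) u₁, ?_⟩
  rw [← Scheme.Hom.comp_apply, ← pullback.condition (f := qU) (g := r0 A f), Scheme.Hom.comp_apply]
  exact hu

open Classical in
theorem exists_idem_lift {C : Type u} [CommRing C] [Algebra A C] [Module.Finite A C] [HenselianRing A (Ideal.span {f})]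
    (D : Set (PrimeSpectrum C)) (hD : IsClosed D) (hD' : IsClosed ({y | algebraMap A C f ∈ y.asIdeal} \ D)) :
    ∃ b : C, IsIdempotentElem b ∧ ∀ y : PrimeSpectrum C, algebraMap A C f ∈ y.asIdeal → (b ∉ y.asIdeal ↔ y ∈ D) := by
  let J : Ideal C := (Ideal.span {f}).map (algebraMap A C)
  let c : PrimeSpectrum (C ⧸ J) → PrimeSpectrum C := PrimeSpectrum.comap (Ideal.Quotient.mk J)
  have hc : ∀ p, algebraMap A C f ∈ (c p).asIdeal := fun p => by
    have h0 : Ideal.Quotient.mk J (algebraMap A C f) = 0 :=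
      Ideal.Quotient.eq_zero_iff_mem.2 (Ideal.mem_map_of_mem _ (Ideal.mem_span_singleton_self f))
    show Ideal.Quotient.mk J (algebraMap A C f) ∈ p.asIdeal
    rw [h0]
    exact zero_mem _
  have hS : IsClopen (c ⁻¹' D) := by
    refine ⟨hD.preimage (PrimeSpectrum.continuous_comap _), isClosed_compl_iff.1 ?_⟩
    rw [show (c ⁻¹' D)ᶜ = c ⁻¹' ({y | algebraMap A C f ∈ y.asIdeal} \ D) from Set.ext fun p =>
      ⟨fun h => ⟨hc p, h⟩, fun h => h.2⟩]
    exact hD'.preimage (PrimeSpectrum.continuous_comap _)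
  obtain ⟨e, he, heS⟩ := PrimeSpectrum.isClopen_iff.1 hS
  obtain ⟨b, hb, hbe⟩ := Hensel.surjOn_idempotent (I := Ideal.span {f}) C he
  refine ⟨b, hb, fun y hy => ?_⟩
  obtain ⟨p, rfl⟩ : y ∈ Set.range c := by
    refine (range_comap_of_surjective _ _ Ideal.Quotient.mk_surjective).ge ?_
    rw [Ideal.mk_ker, PrimeSpectrum.mem_zeroLocus]
    refine Ideal.map_le_iff_le_comap.2 (Ideal.span_le.2 ?_)
    simpa using hy
  show Ideal.Quotient.mk J b ∉ p.asIdeal ↔ p ∈ c ⁻¹' D
  rw [hbe, heS]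
  rfl

theorem clopensDescend_descend (hf : f ∈ IsLocalRing.maximalIdeal A) [HenselianRing A (Ideal.span {f})]
    (hd : FEtLib.ClopensDescend (r0' A f)) : FEtLib.ClopensDescend (r0 A f) := by
  intro W Z hZ
  haveI : IsFinite W.hom := W.prop.1
  let U := FEt.puncturedSpec A
  let t := tH A
  let qU := pullback.fst U.ι t
  let sU := pullback.snd U.ι t
  let W' := (FEt.restrict qU).obj W
  haveI : IsFinite W'.hom := W'.prop.1
  let pW : pullback W.hom qU ⟶ W.left := pullback.fst W.hom qU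
  haveI : Surjective qU := MorphismProperty.pullback_fst (P := @Surjective) _ _ inferInstance
  haveI : Surjective pW := MorphismProperty.pullback_fst (P := @Surjective) _ _ inferInstance
  have hw0 : pW ≫ W.hom = W'.hom ≫ qU := pullback.condition
  let c : ((FEt.restrict (r0' A f)).obj W').left ⟶ ((FEt.restrict (r0 A f)).obj W).left :=
    pullback.lift (pullback.fst W'.hom (r0' A f) ≫ pW) (pullback.snd W'.hom (r0' A f) ≫ pullback.snd qU (r0 A f)) (by
      rw [Category.assoc, Category.assoc, hw0, ← pullback.condition (f := qU) (g := r0 A f),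
        ← Category.assoc, pullback.condition]
      simp only [Category.assoc]
      rfl)
  have hcp : c ≫ FEtLib.bcFst (r0 A f) W = FEtLib.bcFst (r0' A f) W' ≫ pW := pullback.lift_fst _ _ _
  obtain ⟨Z1, hZ1, hZ1eq⟩ := hd W' (c ⁻¹' Z) (hZ.preimage c.continuous)
  obtain ⟨e, he, heZ⟩ := exists_idem_of_clopen hZ1
  obtain ⟨ι, _, g, hg⟩ := exists_gens A
  let U1 : (Spec (CommRingCat.of (Ah A))).Opens := t ⁻¹ᵁ U
  have hU1 : U1 = ⨆ i, PrimeSpectrum.basicOpen (algebraMap A (Ah A) (g i)) := by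
    show t ⁻¹ᵁ U = _
    rw [show U = _ from puncturedSpec_eq A g hg, Scheme.Hom.preimage_iSup]
    rfl
  have hrange : Set.range sU = Set.range U1.ι := by
    rw [Scheme.Pullback.range_snd, Scheme.Opens.range_ι, Scheme.Opens.range_ι]
    rfl
  let e1 := IsOpenImmersion.isoOfRangeEq sU U1.ι hrange
  have he1 : e1.hom ≫ U1.ι = sU := IsOpenImmersion.isoOfRangeEq_hom_fac _ _ _
  let w1 : W'.left ⟶ U1 := W'.hom ≫ e1.hom
  haveI : IsFinite w1 := inferInstanceAs (IsFinite (W'.hom ≫ e1.hom))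
  haveI : IsNoetherianRing (Ah A) := RegLocal.isNoetherianRing_completion _ _
  obtain ⟨B, φ, j, hφ, hj, hjr, hjc, eB, heB, heB'⟩ :=
    exists_extension_idem (Ah A) (fun i => algebraMap A (Ah A) (g i)) U1 hU1 w1 e he
  have hjz : j ≫ Spec.map φ = W'.hom ≫ sU := by
    rw [hjc, Category.assoc, he1]
  haveI : IsFinite (Spec.map φ) := (IsFinite.SpecMap_iff _).mpr hφ
  haveI := hj
  let eL : pullback W.hom qU ⟶ pullback (Spec.map φ) sU := pullback.lift j W'.hom hjz
  have heL : eL ≫ pullback.fst (Spec.map φ) sU = j := pullback.lift_fst _ _ _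
  have hrange2 : Set.range j = Set.range (pullback.fst (Spec.map φ) sU) := by
    rw [hjr, Scheme.Pullback.range_fst, hrange, Scheme.Opens.range_ι]
  haveI : IsIso eL := by
    have : eL = (IsOpenImmersion.isoOfRangeEq j (pullback.fst (Spec.map φ) sU) hrange2).hom := by
      rw [← cancel_mono (pullback.fst (Spec.map φ) sU), heL, IsOpenImmersion.isoOfRangeEq_hom_fac]
    rw [this]; infer_instance
  haveI : IsFinite (CategoryTheory.Over.mk W.hom).hom := W.prop.1
  obtain ⟨Y, π, qY, l, hπ, sB, hl, hlh, hcompat⟩ :=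
    exists_finite_extension_completion A (CategoryTheory.Over.mk W.hom) (Spec.map φ) eL (pullback.lift_snd _ _ _)
  let i : W.left ⟶ Y := l ≫ pullback.fst π U.ι
  haveI := hl
  haveI : IsOpenImmersion i := inferInstanceAs (IsOpenImmersion (l ≫ pullback.fst π U.ι))
  have hjq' : j ≫ qY = pW ≫ i := by
    rw [← heL, Category.assoc]
    exact hcompat
  have hjq : ∀ x, qY (j x) = i (pW x) := fun x => congr($hjq' x)
  have hiπ' : i ≫ π = W.hom ≫ U.ι := by
    show (l ≫ pullback.fst π U.ι) ≫ π = W.hom ≫ U.ι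
    rw [Category.assoc, pullback.condition, ← Category.assoc, hlh]
    rfl
  have hiπ : ∀ w, π (i w) = U.ι (W.hom w) := fun w => congr($hiπ' w)
  haveI : IsAffine Y := isAffine_of_isAffineHom π
  let ψ : CommRingCat.of A ⟶ Γ(Y, ⊤) := (Scheme.ΓSpecIso (CommRingCat.of A)).inv ≫ π.appTop
  let κ := Y.isoSpec.hom
  have hκ : κ ≫ Spec.map ψ = π := by
    show Y.toSpecΓ ≫ Spec.map ψ = π
    rw [Spec.map_comp, ← Category.assoc, ← Scheme.toSpecΓ_naturality, Category.assoc,
      toSpecΓ_SpecMap_ΓSpecIso_inv, Category.comp_id]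
  letI : Algebra A Γ(Y, ⊤) := ψ.hom.toAlgebra
  haveI : Module.Finite A Γ(Y, ⊤) :=
    (IsFinite.finite_app (f := π) ⊤ (isAffineOpen_top _)).comp
      (RingHom.Finite.of_surjective _ (ConcreteCategory.bijective_of_isIso
        (Scheme.ΓSpecIso (CommRingCat.of A)).inv).surjective)
  haveI : Flat qY := MorphismProperty.of_isPullback sB.flip inferInstance
  haveI : Surjective qY := MorphismProperty.of_isPullback sB.flip inferInstance
  haveI : QuasiCompact qY := MorphismProperty.of_isPullback sB.flip inferInstance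
  let q : Spec B ⟶ Spec Γ(Y, ⊤) := qY ≫ κ
  haveI : Surjective q := inferInstanceAs (Surjective (qY ≫ κ))
  haveI : Flat q := inferInstanceAs (Flat (qY ≫ κ))
  haveI : QuasiCompact q := inferInstanceAs (QuasiCompact (qY ≫ κ))
  have hq : Topology.IsQuotientMap q := Flat.isQuotientMap_of_surjective q
  let P : Set (Spec Γ(Y, ⊤)) := {y | f ∈ (Spec.map ψ y).asIdeal}
  have hP : IsClosed P := by
    have : P = Spec.map ψ ⁻¹' PrimeSpectrum.zeroLocus {f} := Set.ext fun y =>
      (Set.singleton_subset_iff (s := ((Spec.map ψ y).asIdeal : Set A))).symm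
    rw [this]
    exact (PrimeSpectrum.isClosed_zeroLocus _).preimage (Spec.map ψ).continuous
  haveI : IsClosedImmersion (Spec.map (CommRingCat.ofHom (Ideal.Quotient.mk (Ideal.span {f})))) :=
    IsClosedImmersion.spec_of_surjective _ Ideal.Quotient.mk_surjective
  haveI : IsClosedImmersion (r0 A f) :=
    MorphismProperty.pullback_fst (P := @IsClosedImmersion) _ _ inferInstance
  let p := FEtLib.bcFst (r0 A f) W
  haveI : IsClosedImmersion p := MorphismProperty.pullback_fst (P := @IsClosedImmersion) _ _ inferInstance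
  have hmem : ∀ x w v, pW x = w → p v = w → (eB ∉ (j x).asIdeal ↔ v ∈ Z) := by
    intro x w v hx hv
    subst hx
    rw [← heB', heZ]
    obtain ⟨u₁, hu⟩ : x ∈ Set.range (FEtLib.bcFst (r0' A f) W') := by
      show x ∈ Set.range (pullback.fst W'.hom (r0' A f))
      rw [Scheme.Pullback.range_fst, Scheme.Pullback.range_fst]
      show qU (W'.hom x) ∈ Set.range (r0 A f)
      rw [show qU (W'.hom x) = W.hom (pW x) from (congr($hw0 x)).symm, ← hv]
      refine ⟨pullback.snd W.hom (r0 A f) v, ?_⟩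
      exact (congr($(pullback.condition (f := W.hom) (g := r0 A f)) v)).symm
    have h1 : c u₁ = v := p.isClosedEmbedding.injective (by
      rw [hv, ← hu]
      exact congr($hcp u₁))
    rw [← hu, ← h1]
    exact Set.ext_iff.1 hZ1eq u₁
  have hsat : ∀ z₁ z₂ : Spec B, q z₁ ∈ P → q z₁ = q z₂ → eB ∉ z₁.asIdeal → eB ∉ z₂.asIdeal := by
    intro z₁ z₂ hz he12 h1
    have hy : qY z₁ = qY z₂ := κ.homeomorph.injective he12
    have hpi : π (qY z₁) = Spec.map ψ (q z₁) := by
      rw [← hκ]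
      rfl
    by_cases hc : π (qY z₁) = IsLocalRing.closedPoint A
    · rwa [← injective_over_closedPoint A sB hy hc]
    · have hjmem : ∀ z, qY z = qY z₁ → z ∈ Set.range j := fun z hz' => by
        rw [hjr]
        show t (Spec.map φ z) ∈ U
        rw [← Scheme.Hom.comp_apply, ← sB.w, Scheme.Hom.comp_apply, hz']
        exact hc
      obtain ⟨x₁, rfl⟩ := hjmem z₁ rfl
      obtain ⟨x₂, rfl⟩ := hjmem z₂ hy.symm
      have hww : pW x₁ = pW x₂ := i.isOpenEmbedding.injective (by rw [← hjq, ← hjq, hy])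
      obtain ⟨v, hv⟩ : pW x₁ ∈ Set.range p := by
        refine (range_bcFst A f W).ge ?_
        show f ∈ (U.ι (W.hom (pW x₁))).asIdeal
        rw [← hiπ, ← hjq, hpi]
        exact hz
      exact (hmem x₂ _ v hww.symm hv).2 ((hmem x₁ _ v rfl hv).1 h1)
  let D : Set (Spec Γ(Y, ⊤)) := {y | y ∈ P ∧ ∃ z, q z = y ∧ eB ∉ z.asIdeal}
  have hcl := PrimeSpectrum.isClopen_iff.2 ⟨eB, heB, rfl⟩
  have hD : IsClosed D := by
    rw [← hq.isClosed_preimage]
    rw [show q ⁻¹' D = q ⁻¹' P ∩ (PrimeSpectrum.basicOpen eB : Set (PrimeSpectrum B)) from Set.ext fun z =>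
      ⟨fun ⟨hz, z', hz', h⟩ => ⟨hz, hsat z' z (by rw [hz']; exact hz) hz' h⟩, fun ⟨hz, h⟩ => ⟨hz, z, rfl, h⟩⟩]
    exact (hP.preimage q.continuous).inter hcl.1
  have hD' : IsClosed (P \ D) := by
    rw [← hq.isClosed_preimage]
    rw [show q ⁻¹' (P \ D) = q ⁻¹' P ∩ (PrimeSpectrum.basicOpen eB : Set (PrimeSpectrum B))ᶜ from Set.ext fun z =>
      ⟨fun ⟨hz, hn⟩ => ⟨hz, fun h => hn ⟨hz, z, rfl, h⟩⟩, fun ⟨hz, h⟩ =>
        ⟨hz, fun ⟨_, z', hz', h'⟩ => h (hsat z' z (by rw [hz']; exact hz) hz' h')⟩⟩]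
    exact (hP.preimage q.continuous).inter hcl.2.isClosed_compl
  obtain ⟨b, hb, hbD⟩ := exists_idem_lift A f D hD hD'
  let ik : W.left ⟶ Spec Γ(Y, ⊤) := i ≫ κ
  refine ⟨ik ⁻¹' (PrimeSpectrum.basicOpen b : Set (PrimeSpectrum Γ(Y, ⊤))),
    IsClopen.preimage (PrimeSpectrum.isClopen_iff.2 ⟨b, hb, rfl⟩) ik.continuous, ?_⟩
  ext v
  show b ∉ (ik (p v)).asIdeal ↔ v ∈ Z
  obtain ⟨x, hx⟩ := pW.surjective (p v)
  have hiw : q (j x) = ik (p v) := by
    show κ (qY (j x)) = κ (i (p v))
    rw [hjq, hx]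
  have hyP : ik (p v) ∈ P := by
    show f ∈ (Spec.map ψ (κ (i (p v)))).asIdeal
    rw [← Scheme.Hom.comp_apply κ, hκ, hiπ]
    exact (range_bcFst A f W).le ⟨v, rfl⟩
  rw [hbD _ hyP]
  refine ⟨fun ⟨_, z, hz, h⟩ => ?_, fun h => ⟨hyP, j x, hiw, (hmem x _ v hx rfl).2 h⟩⟩
  exact (hmem x _ v hx rfl).1 (hsat z (j x) (by rw [hz]; exact hyP) (hz.trans hiw.symm) h)

theorem fullyFaithful_descend (hf : f ∈ IsLocalRing.maximalIdeal A) [HenselianRing A (Ideal.span {f})]
    (h : (FEt.restrict (r0' A f)).Full ∧ (FEt.restrict (r0' A f)).Faithful) :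
    (FEt.restrict (r0 A f)).Full ∧ (FEt.restrict (r0 A f)).Faithful := by
  haveI := h.1
  haveI := h.2
  have hM := meetsClopens_descend A f (meetsClopens_of_faithful _)
  exact ⟨FEtLib.full _ hM (clopensDescend_descend A f hf (FEtLib.clopensDescend_of_full _)), FEtLib.faithful _ hM⟩

end Groth.Agent.HyperFEt
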