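import Groth.Agent.HyperFEt.Idem
import Mathlib.AlgebraicGeometry.Morphisms.Finite
import Mathlib.AlgebraicGeometry.Morphisms.Flat
import Mathlib.RingTheory.Noetherian.Basic

/-! A finite scheme over a quasi-affine open of a noetherian affine scheme extends to a finite scheme. -/

set_option autoImplicit false
set_option linter.style.haveILetI false
universe u

open CategoryTheory AlgebraicGeometry TopologicalSpace

noncomputable section

namespace Groth.Agent.HyperFEt

open scoped Pointwise in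
/-- A finite subalgebra with the same localizations. -/
theorem exists_subalgebra {A : Type u} [CommRing A] {Γ' : Type u} [CommRing Γ'] [Algebra A Γ'] {ι : Type u}
    [Finite ι] (g : ι → A)
    (h : ∀ j, ∃ S : Finset Γ', ∀ z : Γ', ∃ n, g j ^ n • z ∈ Submodule.span A (S : Set Γ')) :
    ∃ B : Subalgebra A Γ', Module.Finite A B ∧ ∀ j z, ∃ n, g j ^ n • z ∈ B := by
  classical
  haveI := Fintype.ofFinite ι
  choose S hS using h
  let T : Finset Γ' := insert 1 (Finset.univ.biUnion S)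
  let P : Submodule A Γ' := Submodule.span A (T : Set Γ')
  have hP : ∀ j z, ∃ n, g j ^ n • z ∈ P := fun j z => by
    obtain ⟨n, hn⟩ := hS j z
    exact ⟨n, Submodule.span_mono (fun x hx => Finset.mem_insert_of_mem
      (Finset.mem_biUnion.2 ⟨j, Finset.mem_univ j, hx⟩)) hn⟩
  choose m hm using fun (j : ι) (x : T × T) => hP j ((x.1 : Γ') * x.2)
  let N := ∑ j, ∑ x, m j x
  have hN : ∀ j, ∀ p ∈ P * P, g j ^ N • p ∈ P := fun j p hp => by
    rw [Submodule.span_mul_span] at hp
    induction hp using Submodule.span_induction with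
    | mem x hx =>
      obtain ⟨a, ha, b, hb, rfl⟩ := hx
      have hle : m j (⟨a, ha⟩, ⟨b, hb⟩) ≤ N :=
        (Finset.single_le_sum (f := m j) (fun _ _ => Nat.zero_le _) (Finset.mem_univ _)).trans
          (Finset.single_le_sum (f := fun j => ∑ x, m j x) (fun _ _ => Nat.zero_le _) (Finset.mem_univ j))
      rw [← Nat.sub_add_cancel hle, pow_add, mul_smul]
      exact P.smul_mem _ (hm j (⟨a, ha⟩, ⟨b, hb⟩))
    | zero => simp
    | add x y _ _ hx hy => rw [smul_add]; exact P.add_mem hx hy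
    | smul r x _ hx => rw [smul_comm]; exact P.smul_mem r hx
  let J : Ideal A := Ideal.span (Set.range fun j => g j ^ N)
  let Q : Submodule A Γ' := J • P
  have hJ : ∀ r ∈ J, ∀ p ∈ P * P, r • p ∈ P := fun r hr p hp => by
    induction hr using Submodule.span_induction with
    | mem x hx => obtain ⟨j, rfl⟩ := hx; exact hN j p hp
    | zero => simp
    | add x y _ _ hx hy => rw [add_smul]; exact P.add_mem hx hy
    | smul c x _ hx => rw [smul_eq_mul, mul_smul]; exact P.smul_mem c hx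
  have hQQ : ∀ a ∈ Q, ∀ b ∈ Q, a * b ∈ Q := fun a ha b hb => by
    refine Submodule.smul_induction_on ha (fun r hr p hp => ?_) (fun x y hx hy => by
      rw [add_mul]; exact Q.add_mem hx hy)
    refine Submodule.smul_induction_on hb (fun r' hr' p' hp' => ?_) (fun x y hx hy => by
      rw [mul_add]; exact Q.add_mem hx hy)
    rw [smul_mul_smul_comm, mul_smul]
    exact Submodule.smul_mem_smul hr (hJ r' hr' _ (Submodule.mul_mem_mul hp hp'))
  let Bm : Submodule A Γ' := 1 ⊔ Q
  have h1 : (1 : Γ') ∈ Bm := Submodule.mem_sup_left (Submodule.one_le.1 le_rfl)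
  let B : Subalgebra A Γ' := Bm.toSubalgebra h1 fun x y hx hy => by
    obtain ⟨u, hu, v, hv, rfl⟩ := Submodule.mem_sup.1 hx
    obtain ⟨u', hu', v', hv', rfl⟩ := Submodule.mem_sup.1 hy
    rw [Submodule.mem_one] at hu hu'
    obtain ⟨r, rfl⟩ := hu
    obtain ⟨r', rfl⟩ := hu'
    rw [add_mul, mul_add, mul_add, ← map_mul, ← Algebra.smul_def, mul_comm v, ← Algebra.smul_def, add_assoc]
    exact Bm.add_mem (Submodule.mem_sup_left (Submodule.mem_one.2 ⟨_, rfl⟩))
      (Submodule.mem_sup_right (Q.add_mem (Q.smul_mem _ hv') (Q.add_mem (Q.smul_mem _ hv) (hQQ v hv v' hv'))))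
  refine ⟨B, ?_, fun j z => ?_⟩
  · haveI : Module.Finite A Bm := by
      refine Module.Finite.iff_fg.2 (Submodule.FG.sup ?_ ((Submodule.fg_span T.finite_toSet).smul
        (Submodule.fg_span (Set.finite_range _))))
      rw [Submodule.one_eq_span]
      exact Submodule.fg_span_singleton 1
    let e : Bm →ₗ[A] B :=
      { toFun := fun x => ⟨x.1, x.2⟩
        map_add' := fun _ _ => rfl
        map_smul' := fun _ _ => rfl }
    exact Module.Finite.of_surjective e fun x => ⟨⟨x.1, x.2⟩, rfl⟩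
  · obtain ⟨n, hn⟩ := hP j z
    refine ⟨N + n, Submodule.mem_sup_right ?_⟩
    rw [pow_add, mul_smul]
    exact Submodule.smul_mem_smul (Ideal.subset_span ⟨j, rfl⟩) hn

variable (A : Type u) [CommRing A]

/-- Local generators of the functions of a finite scheme over the open. -/
theorem exists_loc_gens [IsNoetherianRing A] {ι : Type u} [Finite ι] (g : ι → A)
    (U : (Spec (CommRingCat.of A)).Opens) (hU : U = ⨆ j, PrimeSpectrum.basicOpen (g j))
    {W : Scheme.{u}} (w : W ⟶ U) [IsFinite w] :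
    letI : Algebra A Γ(W, ⊤) := ((Scheme.ΓSpecIso (CommRingCat.of A)).inv ≫ (w ≫ U.ι).appTop).hom.toAlgebra
    ∀ i, ∃ S : Finset Γ(W, ⊤), ∀ z : Γ(W, ⊤), ∃ n, g i ^ n • z ∈ Submodule.span A (S : Set Γ(W, ⊤)) := by
  classical
  let g' : W ⟶ Spec (CommRingCat.of A) := w ≫ U.ι
  haveI : IsNoetherianRing (CommRingCat.of A) := inferInstanceAs (IsNoetherianRing A)
  haveI hc : CompactSpace (U : Scheme.{u}) :=
    isCompact_iff_compactSpace.mp (NoetherianSpace.isCompact (U : Set (Spec (CommRingCat.of A))))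
  haveI : CompactSpace W := QuasiCompact.compactSpace_of_compactSpace w
  haveI : QuasiSeparatedSpace W := quasiSeparatedSpace_of_quasiSeparated g'
  let ψ : CommRingCat.of A ⟶ Γ(W, ⊤) := (Scheme.ΓSpecIso (CommRingCat.of A)).inv ≫ g'.appTop
  letI : Algebra A Γ(W, ⊤) := ψ.hom.toAlgebra
  let D (i : ι) : (Spec (CommRingCat.of A)).Opens := PrimeSpectrum.basicOpen (g i)
  have hDU : ∀ i, D i ≤ U := fun i => hU ▸ le_iSup (fun j => PrimeSpectrum.basicOpen (g j)) i
  have hDW : ∀ i, g' ⁻¹ᵁ D i = W.basicOpen (algebraMap A Γ(W, ⊤) (g i)) := fun i => by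
    show g' ⁻¹ᵁ PrimeSpectrum.basicOpen (g i) = _
    rw [← basicOpen_eq_of_affine (R := CommRingCat.of A), Scheme.preimage_basicOpen]
    rfl
  have hfin : ∀ i, (g'.app (D i)).hom.Finite := fun i => by
    have hD : IsAffineOpen (U.ι ⁻¹ᵁ D i) := by
      rw [← (U.ι).isAffineOpen_iff_of_isOpenImmersion, Scheme.Hom.image_preimage_eq_opensRange_inf,
        Scheme.Opens.opensRange_ι, inf_eq_right.2 (hDU i)]
      exact IsAffineOpen.Spec_basicOpen (R := CommRingCat.of A) (g i)
    haveI : IsIso (U.ι.app (D i)) := Scheme.Hom.isIso_app _ _ (by rw [Scheme.Opens.opensRange_ι]; exact hDU i)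
    show ((w ≫ U.ι).app (D i)).hom.Finite
    rw [Scheme.Hom.comp_app]
    exact (IsFinite.finite_app (f := w) _ hD).comp
      (RingHom.Finite.of_surjective _ (ConcreteCategory.bijective_of_isIso (U.ι.app (D i))).surjective)
  have hS : ∀ i, ∃ S : Finset Γ(W, ⊤), ∀ z : Γ(W, ⊤), ∃ n, g i ^ n • z ∈ Submodule.span A (S : Set Γ(W, ⊤)) := by
    intro i
    let a : Γ(W, ⊤) := algebraMap A Γ(W, ⊤) (g i)
    let R₁ := Γ(Spec (CommRingCat.of A), D i)
    let R₂ := Γ(W, g' ⁻¹ᵁ D i)
    letI : Algebra R₁ R₂ := (g'.app (D i)).hom.toAlgebra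
    letI : Algebra A R₁ := StructureSheaf.openAlgebra A (Opposite.op (PrimeSpectrum.basicOpen (g i)))
    letI : Algebra Γ(W, ⊤) R₂ := (W.presheaf.map (homOfLE (le_top : g' ⁻¹ᵁ D i ≤ ⊤)).op).hom.toAlgebra
    letI : Algebra A R₂ := ((algebraMap Γ(W, ⊤) R₂).comp (algebraMap A Γ(W, ⊤))).toAlgebra
    haveI : IsScalarTower A Γ(W, ⊤) R₂ := IsScalarTower.of_algebraMap_eq fun _ => rfl
    haveI : IsScalarTower A R₁ R₂ := IsScalarTower.of_algebraMap_eq fun r =>
      (congr($(g'.naturality (homOfLE (le_top : D i ≤ ⊤)).op).hom ((Scheme.ΓSpecIso (CommRingCat.of A)).inv r))).symm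
    haveI : Module.Finite R₁ R₂ := hfin i
    haveI : IsLocalization.Away (g i) R₁ := StructureSheaf.IsLocalization.to_basicOpen A (g i)
    haveI : IsLocalization.Away a R₂ := by
      show IsLocalization.Away a Γ(W, g' ⁻¹ᵁ D i)
      have key : ∀ (V : W.Opens), V = W.basicOpen a →
          letI := (W.presheaf.map (homOfLE (le_top : V ≤ ⊤)).op).hom.toAlgebra
          IsLocalization.Away a Γ(W, V) := by
        rintro V rfl
        exact isLocalization_basicOpen_of_qcqs isCompact_univ isQuasiSeparated_univ a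
      exact key _ (hDW i)
    obtain ⟨t, ht⟩ := Module.Finite.fg_top (R := R₁) (M := R₂)
    choose p v hv using fun x : R₂ => IsLocalization.Away.surj a x
    have hsm : ∀ (r : A) (q : Γ(W, ⊤)), algebraMap Γ(W, ⊤) R₂ (r • q) = r • algebraMap Γ(W, ⊤) R₂ q := fun r q => by
      rw [Algebra.smul_def, map_mul, ← IsScalarTower.algebraMap_apply, ← Algebra.smul_def]
    refine ⟨t.image v, fun z => ?_⟩
    let P := Submodule.span A ((t.image v : Finset Γ(W, ⊤)) : Set Γ(W, ⊤))
    have key : ∀ x : R₂, ∃ (n : ℕ) (q : Γ(W, ⊤)), q ∈ P ∧ g i ^ n • x = algebraMap _ R₂ q := fun x => by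
      have hx : x ∈ Submodule.span R₁ (t : Set R₂) := ht ▸ Submodule.mem_top
      induction hx using Submodule.span_induction with
      | mem x hx =>
        refine ⟨p x, v x, Submodule.subset_span (Finset.mem_image_of_mem v hx), ?_⟩
        rw [← hv x, Algebra.smul_def, IsScalarTower.algebraMap_apply A Γ(W, ⊤) R₂, map_pow, map_pow]
        ring
      | zero => exact ⟨0, 0, P.zero_mem, by simp⟩
      | add x y _ _ hx hy =>
        obtain ⟨n, q, hq, e⟩ := hx
        obtain ⟨n', q', hq', e'⟩ := hy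
        refine ⟨n + n', g i ^ n' • q + g i ^ n • q', P.add_mem (P.smul_mem _ hq) (P.smul_mem _ hq'), ?_⟩
        rw [map_add, hsm, hsm, ← e, ← e', smul_add,
          smul_smul, smul_smul, ← pow_add, ← pow_add, add_comm n' n]
      | smul r x _ hx =>
        obtain ⟨n, q, hq, e⟩ := hx
        obtain ⟨k, c, hk⟩ := IsLocalization.Away.surj (g i) r
        refine ⟨k + n, c • q, P.smul_mem _ hq, ?_⟩
        rw [hsm c q, ← e, pow_add, mul_smul, smul_comm (g i ^ n) r, ← smul_assoc,
          show g i ^ k • r = algebraMap A R₁ c by rw [← hk, Algebra.smul_def, map_pow, mul_comm], algebraMap_smul]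
    obtain ⟨n, q, hq, e⟩ := key (algebraMap _ R₂ z)
    rw [← hsm (g i ^ n) z] at e
    obtain ⟨⟨_, k, rfl⟩, hk⟩ := IsLocalization.exists_of_eq (M := Submonoid.powers a) e
    refine ⟨k + n, ?_⟩
    rw [pow_add, mul_smul, Algebra.smul_def (g i ^ k), map_pow]
    have hk' : a ^ k * (g i ^ n • z) = a ^ k * q := hk
    show a ^ k * _ ∈ P
    rw [hk', show a ^ k = algebraMap A Γ(W, ⊤) (g i ^ k) from (map_pow _ _ _).symm, ← Algebra.smul_def]
    exact P.smul_mem _ hq
  exact hS

/-- The open immersion into a finite scheme, carrying an idempotent function. -/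
theorem exists_extension_idem [IsNoetherianRing A] {ι : Type u} [Finite ι] (g : ι → A)
    (U : (Spec (CommRingCat.of A)).Opens) (hU : U = ⨆ j, PrimeSpectrum.basicOpen (g j))
    {W : Scheme.{u}} (w : W ⟶ U) [IsFinite w] (e : Γ(W, ⊤)) (he : IsIdempotentElem e) :
    ∃ (B : CommRingCat.{u}) (φ : CommRingCat.of A ⟶ B) (j : W ⟶ Spec B), φ.hom.Finite ∧ IsOpenImmersion j ∧
      Set.range j = Spec.map φ ⁻¹' (U : Set (Spec (CommRingCat.of A))) ∧ j ≫ Spec.map φ = w ≫ U.ι ∧
      ∃ eB : B, IsIdempotentElem eB ∧ ∀ x, x ∈ W.basicOpen e ↔ eB ∉ (j x).asIdeal := by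
  classical
  let g' : W ⟶ Spec (CommRingCat.of A) := w ≫ U.ι
  haveI : IsNoetherianRing (CommRingCat.of A) := inferInstanceAs (IsNoetherianRing A)
  haveI hc : CompactSpace (U : Scheme.{u}) :=
    isCompact_iff_compactSpace.mp (NoetherianSpace.isCompact (U : Set (Spec (CommRingCat.of A))))
  haveI : CompactSpace W := QuasiCompact.compactSpace_of_compactSpace w
  haveI : QuasiSeparatedSpace W := quasiSeparatedSpace_of_quasiSeparated g'
  let ψ : CommRingCat.of A ⟶ Γ(W, ⊤) := (Scheme.ΓSpecIso (CommRingCat.of A)).inv ≫ g'.appTop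
  letI : Algebra A Γ(W, ⊤) := ψ.hom.toAlgebra
  let D (i : ι) : (Spec (CommRingCat.of A)).Opens := PrimeSpectrum.basicOpen (g i)
  have hDU : ∀ i, D i ≤ U := fun i => hU ▸ le_iSup (fun j => PrimeSpectrum.basicOpen (g j)) i
  have hDW : ∀ i, g' ⁻¹ᵁ D i = W.basicOpen (algebraMap A Γ(W, ⊤) (g i)) := fun i => by
    show g' ⁻¹ᵁ PrimeSpectrum.basicOpen (g i) = _
    rw [← basicOpen_eq_of_affine (R := CommRingCat.of A), Scheme.preimage_basicOpen]
    rfl
  have hS : ∀ i, ∃ S : Finset Γ(W, ⊤), ∀ z : Γ(W, ⊤), ∃ n, g i ^ n • z ∈ Submodule.span A (S : Set Γ(W, ⊤)) :=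
    exists_loc_gens A g U hU w
  obtain ⟨B₀, hB₀, hBloc₀⟩ := exists_subalgebra g hS
  obtain ⟨B, hB, hBloc, heB⟩ : ∃ B : Subalgebra A Γ(W, ⊤), Module.Finite A B ∧
      (∀ j z, ∃ n, g j ^ n • z ∈ B) ∧ e ∈ B := by
    haveI := hB₀
    haveI : Module.Finite A (Algebra.adjoin A ({e} : Set Γ(W, ⊤))) :=
      Module.Finite.iff_fg.2 (IsIntegral.fg_adjoin_singleton
        ⟨Polynomial.X ^ 2 - Polynomial.X, Polynomial.monic_X_pow_sub (Polynomial.degree_X_le.trans_lt (by norm_num)),
          by simp [pow_two, he.eq]⟩)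
    exact ⟨B₀ ⊔ Algebra.adjoin A {e}, Subalgebra.finite_sup _ _, fun j z =>
      (hBloc₀ j z).imp fun n hn => Algebra.mem_sup_left hn,
      Algebra.mem_sup_right (Algebra.self_mem_adjoin_singleton A e)⟩
  let φ : CommRingCat.of A ⟶ CommRingCat.of B := CommRingCat.ofHom (algebraMap A B)
  let incl : CommRingCat.of B ⟶ Γ(W, ⊤) := CommRingCat.ofHom B.val.toRingHom
  let jj : W ⟶ Spec (CommRingCat.of B) := W.toSpecΓ ≫ Spec.map incl
  have hjφ : jj ≫ Spec.map φ = g' := by
    show (W.toSpecΓ ≫ Spec.map incl) ≫ Spec.map φ = g'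
    rw [Category.assoc, ← Spec.map_comp, show φ ≫ incl = ψ from rfl, Spec.map_comp, ← Category.assoc,
      ← Scheme.toSpecΓ_naturality, Category.assoc, toSpecΓ_SpecMap_ΓSpecIso_inv, Category.comp_id]
  let P := Spec.map φ ⁻¹ᵁ U
  have hle : Set.range jj ⊆ (P : Set (Spec (CommRingCat.of B))) := by
    rintro _ ⟨x, rfl⟩
    show Spec.map φ (jj x) ∈ (U : Set _)
    rw [← Scheme.Hom.comp_apply, hjφ]
    exact (w x).2
  let l : W ⟶ P := IsOpenImmersion.lift P.ι jj (by rw [Scheme.Opens.range_ι]; exact hle)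
  have hl : l ≫ P.ι = jj := IsOpenImmersion.lift_fac _ _ _
  have hlw : l ≫ (Spec.map φ ∣_ U) = w := by
    rw [← cancel_mono U.ι, Category.assoc, morphismRestrict_ι, ← Category.assoc, hl, hjφ]
  haveI : IsAffineHom (l ≫ (Spec.map φ ∣_ U)) := hlw ▸ inferInstance
  haveI : IsAffineHom l := IsAffineHom.of_comp l (Spec.map φ ∣_ U)
  let b (i : ι) : B := algebraMap A B (g i)
  let Db (i : ι) : (Spec (CommRingCat.of B)).Opens := PrimeSpectrum.basicOpen (b i)
  have hDb : ∀ i, Db i ≤ P := fun i q hq => hDU i hq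
  haveI : IsIso l := by
    refine (IsZariskiLocalAtTarget.iff_of_iSup_eq_top (P := MorphismProperty.isomorphisms Scheme.{u})
      (fun i => P.ι ⁻¹ᵁ Db i) ?_).2 fun i => ?_
    · refine TopologicalSpace.Opens.ext (Set.eq_univ_of_forall fun q => ?_)
      have hq : (Spec.map φ).base q.1 ∈ (⨆ j, PrimeSpectrum.basicOpen (g j) : (Spec (CommRingCat.of A)).Opens) :=
        hU ▸ q.2
      obtain ⟨i, hi⟩ := TopologicalSpace.Opens.mem_iSup.1 hq
      exact TopologicalSpace.Opens.mem_iSup.2 ⟨i, hi⟩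
    have hDa : IsAffineOpen (P.ι ⁻¹ᵁ Db i) := by
      rw [← (P.ι).isAffineOpen_iff_of_isOpenImmersion, Scheme.Hom.image_preimage_eq_opensRange_inf,
        Scheme.Opens.opensRange_ι, inf_eq_right.2 (hDb i)]
      exact IsAffineOpen.Spec_basicOpen (R := CommRingCat.of B) (b i)
    refine (isIso_morphismRestrict_iff_isIso_app l hDa).2 ?_
    haveI : IsIso (P.ι.app (Db i)) := Scheme.Hom.isIso_app _ _ (by rw [Scheme.Opens.opensRange_ι]; exact hDb i)
    suffices h : IsIso ((l ≫ P.ι).app (Db i)) by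
      rw [Scheme.Hom.comp_app] at h
      exact @IsIso.of_isIso_comp_left _ _ _ _ _ (P.ι.app (Db i)) (l.app (P.ι ⁻¹ᵁ Db i)) inferInstance h
    rw [hl]
    rw [ConcreteCategory.isIso_iff_bijective]
    let S₁ := Γ(Spec (CommRingCat.of B), Db i)
    let S₂ := Γ(W, jj ⁻¹ᵁ Db i)
    let c : Γ(W, ⊤) := (b i : B).1
    letI : Algebra B S₁ := StructureSheaf.openAlgebra B (Opposite.op (PrimeSpectrum.basicOpen (b i)))
    haveI : IsLocalization.Away (b i) S₁ := StructureSheaf.IsLocalization.to_basicOpen B (b i)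
    letI : Algebra Γ(W, ⊤) S₂ := (W.presheaf.map (homOfLE (le_top : jj ⁻¹ᵁ Db i ≤ ⊤)).op).hom.toAlgebra
    have hjc : ∀ x : B, jj.appTop ((Scheme.ΓSpecIso (CommRingCat.of B)).inv x) = (x : Γ(W, ⊤)) := fun x => by
      show ((Scheme.ΓSpecIso (CommRingCat.of B)).inv ≫ (W.toSpecΓ ≫ Spec.map incl).appTop) x = incl x
      rw [Scheme.Hom.comp_appTop, Scheme.toSpecΓ_appTop, ← Category.assoc, ← Scheme.ΓSpecIso_inv_naturality,
        Category.assoc, Iso.inv_hom_id, Category.comp_id]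
    have hbo : jj ⁻¹ᵁ Db i = W.basicOpen c := by
      show jj ⁻¹ᵁ PrimeSpectrum.basicOpen (b i) = _
      rw [← basicOpen_eq_of_affine (R := CommRingCat.of B), Scheme.preimage_basicOpen]
      exact congrArg W.basicOpen (hjc (b i))
    haveI : IsLocalization.Away c S₂ := by
      have key : ∀ (V : W.Opens), V = W.basicOpen c →
          letI := (W.presheaf.map (homOfLE (le_top : V ≤ ⊤)).op).hom.toAlgebra
          IsLocalization.Away c Γ(W, V) := by
        rintro V rfl
        exact isLocalization_basicOpen_of_qcqs isCompact_univ isQuasiSeparated_univ c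
      exact key _ hbo
    have happ : ∀ x : B, (jj.app (Db i)).hom (algebraMap B S₁ x) = algebraMap _ S₂ (x : Γ(W, ⊤)) := fun x => by
      rw [← hjc x]
      exact congr($(jj.naturality (homOfLE (le_top : Db i ≤ ⊤)).op).hom ((Scheme.ΓSpecIso (CommRingCat.of B)).inv x))
    refine ⟨(injective_iff_map_eq_zero (jj.app (Db i)).hom).2 fun s hs => ?_, fun s => ?_⟩
    · obtain ⟨n, x, hx⟩ := IsLocalization.Away.surj (b i) s
      have h0 : algebraMap _ S₂ (x : Γ(W, ⊤)) = 0 := by
        rw [← happ, ← hx, map_mul]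
        exact mul_eq_zero_of_left hs _
      obtain ⟨⟨_, k, rfl⟩, hk⟩ := (IsLocalization.map_eq_zero_iff (Submonoid.powers c) S₂ _).1 h0
      have hx0 : b i ^ k * x = 0 := Subtype.ext (by simpa [c] using hk)
      refine (IsUnit.mul_left_eq_zero ((IsLocalization.Away.algebraMap_isUnit (S := S₁) (b i)).pow n)).1 ?_
      refine (IsUnit.mul_right_eq_zero ((IsLocalization.Away.algebraMap_isUnit (S := S₁) (b i)).pow k)).1 ?_
      rw [hx, ← map_pow, ← map_mul, hx0, map_zero]
    · obtain ⟨n, z, hz⟩ := IsLocalization.Away.surj c s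
      obtain ⟨k, hk⟩ := hBloc i z
      have hu := IsLocalization.Away.algebraMap_isUnit (S := S₁) (b i)
      refine ⟨algebraMap B S₁ ⟨_, hk⟩ * ↑(hu.pow (k + n)).unit⁻¹, ?_⟩
      refine ((IsLocalization.Away.algebraMap_isUnit (S := S₂) c).pow (k + n)).mul_left_inj.1 ?_
      have hc : algebraMap _ S₂ c ^ (k + n) = (jj.app (Db i)).hom (algebraMap B S₁ (b i) ^ (k + n)) := by
        rw [map_pow, happ]
      rw [hc, ← map_mul, mul_assoc, IsUnit.val_inv_mul, mul_one, happ, ← hc, pow_add,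
        mul_comm (algebraMap _ S₂ c ^ k), ← mul_assoc, hz, ← map_pow, ← map_mul]
      congr 1
      show g i ^ k • z = z * c ^ k
      rw [Algebra.smul_def, map_pow, mul_comm]
      rfl
  have hidem : ∃ eB : (CommRingCat.of B : CommRingCat.{u}), IsIdempotentElem eB ∧
      ∀ x, x ∈ W.basicOpen e ↔ eB ∉ (jj x).asIdeal := by
    refine ⟨(⟨e, heB⟩ : B), Subtype.ext he, fun x => ?_⟩
    have hbo : jj ⁻¹ᵁ PrimeSpectrum.basicOpen (⟨e, heB⟩ : B) = W.basicOpen e := by
      rw [← basicOpen_eq_of_affine (R := CommRingCat.of B), Scheme.preimage_basicOpen]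
      refine congrArg W.basicOpen ?_
      show ((Scheme.ΓSpecIso (CommRingCat.of B)).inv ≫ (W.toSpecΓ ≫ Spec.map incl).appTop) (⟨e, heB⟩ : B) =
        incl (⟨e, heB⟩ : B)
      rw [Scheme.Hom.comp_appTop, Scheme.toSpecΓ_appTop, ← Category.assoc, ← Scheme.ΓSpecIso_inv_naturality,
        Category.assoc, Iso.inv_hom_id, Category.comp_id]
    rw [← hbo]
    rfl
  refine ⟨CommRingCat.of B, φ, jj, hB, hl ▸ inferInstance, ?_, hjφ, hidem⟩
  rw [← hl]
  show Set.range (l ≫ P.ι).base = _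
  rw [Scheme.Hom.comp_base, TopCat.coe_comp, Set.range_comp, Set.range_eq_univ.2 l.surjective,
    Set.image_univ, Scheme.Opens.range_ι]
  rfl

/-- The open immersion into a finite scheme. -/
theorem exists_extension [IsNoetherianRing A] {ι : Type u} [Finite ι] (g : ι → A)
    (U : (Spec (CommRingCat.of A)).Opens) (hU : U = ⨆ j, PrimeSpectrum.basicOpen (g j))
    {W : Scheme.{u}} (w : W ⟶ U) [IsFinite w] :
    ∃ (B : CommRingCat.{u}) (φ : CommRingCat.of A ⟶ B) (j : W ⟶ Spec B), φ.hom.Finite ∧ IsOpenImmersion j ∧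
      Set.range j = Spec.map φ ⁻¹' (U : Set (Spec (CommRingCat.of A))) ∧ j ≫ Spec.map φ = w ≫ U.ι := by
  obtain ⟨B, φ, j, h1, h2, h3, h4, -⟩ := exists_extension_idem A g U hU w 1 IsIdempotentElem.one
  exact ⟨B, φ, j, h1, h2, h3, h4⟩

end Groth.Agent.HyperFEt
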