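import Groth.Agent.HyperFEt.Torsion
import Groth.Agent.S0262
import Groth.Agent.S0239

/-! Extending covers which extend over a hypersurface. -/

set_option autoImplicit false
set_option linter.style.haveILetI false
set_option backward.isDefEq.respectTransparency false

universe u

open CategoryTheory CategoryTheory.Limits AlgebraicGeometry

noncomputable section

namespace Groth.Agent.HyperFEt

variable (A : Type u) [CommRing A] [IsLocalRing A] [IsNoetherianRing A] (f : A)

theorem exists_extension_of_hypersurface (hf : f ∈ IsLocalRing.maximalIdeal A)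
    (h1 : ∃ n : ℕ, ∀ x : LocCoh.H (IsLocalRing.maximalIdeal A) 1 A, (f ^ n) • x = 0)
    (h2 : ∃ n : ℕ, ∀ x : LocCoh.H (IsLocalRing.maximalIdeal A) 2 A, (f ^ n) • x = 0)
    (V : FEt.Cat (FEt.puncturedSpec A : Scheme.{u}))
    (hV : ∃ Y₀ : FEt.Cat (Spec (CommRingCat.of (A ⧸ Ideal.span {f}))),
      Nonempty ((FEt.restrict (pullback.snd (FEt.puncturedSpec A).ι
        (Spec.map (CommRingCat.ofHom (Ideal.Quotient.mk (Ideal.span {f})))))).obj Y₀ ≅
        (FEt.restrict (r0 A f)).obj V)) :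
    ∃ Y : FEt.Cat (Spec (CommRingCat.of A)), Nonempty ((FEt.restrict (FEt.puncturedSpec A).ι).obj Y ≅ V) := by
  obtain ⟨Y₀, ⟨e₀⟩⟩ := hV
  let fh := algebraMap A (Ah A) f
  haveI := isAdicComplete_span A f hf
  haveI : HenselianRing (Ah A) (Ideal.span {fh}) := inferInstance
  let jh := Spec.map (CommRingCat.ofHom (Ideal.Quotient.mk (Ideal.span {fh})))
  haveI : (FEt.restrict jh).IsEquivalence := S0239.result (Ah A) (Ideal.span {fh})
  let σ : A ⧸ Ideal.span {f} →+* (Ah A) ⧸ Ideal.span {fh} :=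
    Ideal.quotientMap _ (algebraMap A (Ah A)) (Ideal.span_le.2 (Set.singleton_subset_iff.2
      (Ideal.mem_span_singleton_self fh)))
  let sσ := Spec.map (CommRingCat.ofHom σ)
  let jf := Spec.map (CommRingCat.ofHom (Ideal.Quotient.mk (Ideal.span {f})))
  haveI : IsClosedImmersion jf := IsClosedImmersion.spec_of_surjective _ Ideal.Quotient.mk_surjective
  have hσ : sσ ≫ jf = jh ≫ tH A := by
    rw [← Spec.map_comp, ← Spec.map_comp, ← CommRingCat.ofHom_comp, ← CommRingCat.ofHom_comp,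
      Ideal.quotientMap_comp_mk]
  let Y' := (FEt.restrict jh).objPreimage ((FEt.restrict sσ).obj Y₀)
  let eY : (FEt.restrict jh).obj Y' ≅ (FEt.restrict sσ).obj Y₀ :=
    (FEt.restrict jh).objObjPreimageIso _
  let U := FEt.puncturedSpec A
  let qU := pullback.fst U.ι (tH A)
  let sU := pullback.snd U.ι (tH A)
  let p0 := pullback.snd qU (r0 A f)
  let s0 := pullback.snd U.ι jf
  obtain ⟨k, hk⟩ := exists_toQuotient A f
  have hks : k ≫ sσ = p0 ≫ s0 := by
    rw [← cancel_mono jf, Category.assoc, hσ, ← Category.assoc, hk, Category.assoc,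
      ← pullback.condition (f := U.ι) (g := tH A), ← Category.assoc, pullback.condition (f := qU) (g := r0 A f),
      Category.assoc, Category.assoc, pullback.condition (f := U.ι) (g := jf)]
  let C {X Y Z : Scheme.{u}} (a : X ⟶ Y) (b : Y ⟶ Z) (W : FEt.Cat Z) :
      (FEt.restrict (a ≫ b)).obj W ≅ (FEt.restrict a).obj ((FEt.restrict b).obj W) :=
    (MorphismProperty.Over.pullbackComp a b).app W
  let iY : (FEt.restrict (r0' A f)).obj ((FEt.restrict sU).obj Y') ≅ (FEt.restrict (p0 ≫ s0)).obj Y₀ :=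
    (C (r0' A f) sU Y').symm ≪≫ eqToIso (by rw [← hk]) ≪≫ C k jh Y' ≪≫ (FEt.restrict k).mapIso eY ≪≫
      (C k sσ Y₀).symm ≪≫ eqToIso (by rw [hks])
  let iV : (FEt.restrict (r0' A f)).obj ((FEt.restrict qU).obj V) ≅ (FEt.restrict (p0 ≫ s0)).obj Y₀ :=
    (C (r0' A f) qU V).symm ≪≫ eqToIso (by rw [pullback.condition (f := qU) (g := r0 A f)]) ≪≫
      C p0 (r0 A f) V ≪≫ (FEt.restrict p0).mapIso e₀.symm ≪≫ (C p0 s0 Y₀).symm
  obtain ⟨hF, hT⟩ := fullyFaithful_r0'_of_torsion A f hf h1 h2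
  exact (S0262.result A V).2 ⟨Y', ⟨(FEt.restrict (r0' A f)).preimageIso (iY ≪≫ iV.symm)⟩⟩

end Groth.Agent.HyperFEt
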