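import Groth.Agent.HyperFEt.Descend
import Groth.Agent.AdicLemmas.Basic
import Groth.Agent.LocCohLib.BaseChange

/-! Full faithfulness of restriction to a hypersurface for henselian pairs with torsion local cohomology. -/

set_option autoImplicit false
set_option linter.style.haveILetI false
set_option backward.isDefEq.respectTransparency false

universe u

open CategoryTheory CategoryTheory.Limits AlgebraicGeometry TensorProduct

noncomputable section

namespace Groth.Agent.HyperFEt

variable (A : Type u) [CommRing A] [IsLocalRing A] [IsNoetherianRing A] (f : A)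

instance isLocalRing_Ah : IsLocalRing (Ah A) :=
  RegLocal.isLocalRing_completion A _ (IsLocalRing.maximalIdeal.isMaximal A).ne_top

instance isNoetherianRing_Ah : IsNoetherianRing (Ah A) := RegLocal.isNoetherianRing_completion _ _

theorem maximalIdeal_Ah : IsLocalRing.maximalIdeal (Ah A) = (IsLocalRing.maximalIdeal A).map (algebraMap A (Ah A)) :=
  AdicCompletion.maximalIdeal_eq_map

theorem preimage_puncturedSpec : tH A ⁻¹ᵁ FEt.puncturedSpec A = FEt.puncturedSpec (Ah A) := by
  refine TopologicalSpace.Opens.ext (Set.ext fun q => not_congr ?_)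
  simp only [Set.mem_singleton_iff]
  refine ⟨fun h => ?_, fun h => ?_⟩
  · refine PrimeSpectrum.ext (le_antisymm (IsLocalRing.le_maximalIdeal q.2.ne_top) ?_)
    show IsLocalRing.maximalIdeal (Ah A) ≤ _
    rw [maximalIdeal_Ah, Ideal.map_le_iff_le_comap]
    exact (congrArg PrimeSpectrum.asIdeal h).ge
  · subst h
    refine PrimeSpectrum.ext (le_antisymm (IsLocalRing.le_maximalIdeal
      (PrimeSpectrum.comap (algebraMap A (Ah A)) (IsLocalRing.closedPoint (Ah A))).2.ne_top) ?_)
    show IsLocalRing.maximalIdeal A ≤ (IsLocalRing.maximalIdeal (Ah A)).comap _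
    rw [maximalIdeal_Ah]
    exact Ideal.le_comap_map

theorem isAdicComplete_span (hf : f ∈ IsLocalRing.maximalIdeal A) :
    IsAdicComplete (Ideal.span {algebraMap A (Ah A) f}) (Ah A) := by
  haveI : IsAdicComplete ((IsLocalRing.maximalIdeal A).map (algebraMap A (Ah A))) (Ah A) := by
    rw [IsAdicComplete.map_algebraMap_iff]
    exact AdicCompletion.isAdicComplete (IsLocalRing.maximalIdeal A).fg_of_isNoetherianRing
  exact AdicLemmas.isAdicComplete_of_le_of_fg
    (Ideal.span_le.2 (Set.singleton_subset_iff.2 (Ideal.mem_map_of_mem _ hf))) (Submodule.fg_span_singleton _) _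

theorem torsion_Ah (i : ℕ) (h : ∃ n : ℕ, ∀ x : LocCoh.H (IsLocalRing.maximalIdeal A) i A, (f ^ n) • x = 0) :
    ∃ n : ℕ, ∀ x : LocCoh.H (IsLocalRing.maximalIdeal (Ah A)) i (Ah A), (algebraMap A (Ah A) f ^ n) • x = 0 := by
  obtain ⟨n, hn⟩ := h
  refine ⟨n, ?_⟩
  haveI := faithfullyFlat_Ah A
  obtain ⟨e⟩ := LocCohLib.exists_baseChange (Ah A) (IsLocalRing.maximalIdeal A) A i
  let F := localCohomology ((IsLocalRing.maximalIdeal A).map (algebraMap A (Ah A))) i
  let e' := e ≪≫ₗ (F.mapIso (AlgebraTensorModule.rid A (Ah A) (Ah A)).toModuleIso).toLinearEquiv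
  rw [maximalIdeal_Ah]
  intro x
  obtain ⟨y, rfl⟩ := e'.surjective x
  rw [← map_smul, show algebraMap A (Ah A) f ^ n • y = 0 from ?_, map_zero]
  induction y with
  | zero => exact smul_zero _
  | add a b ha hb => rw [smul_add, ha, hb, add_zero]
  | tmul b z => rw [← map_pow, algebraMap_smul, ← TensorProduct.tmul_smul, hn, TensorProduct.tmul_zero]

omit [IsNoetherianRing A] in
/-- The hypersurface in the punctured spectrum of the completion maps to the hypersurface of the completion. -/
theorem exists_toQuotient :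
    ∃ k : pullback (pullback.fst (FEt.puncturedSpec A).ι (tH A)) (r0 A f) ⟶
        Spec (CommRingCat.of ((Ah A) ⧸ Ideal.span {algebraMap A (Ah A) f})),
      k ≫ Spec.map (CommRingCat.ofHom (Ideal.Quotient.mk (Ideal.span {algebraMap A (Ah A) f}))) =
        r0' A f ≫ pullback.snd (FEt.puncturedSpec A).ι (tH A) := by
  let fh := algebraMap A (Ah A) f
  let U := FEt.puncturedSpec A
  let qU := pullback.fst U.ι (tH A)
  let sU := pullback.snd U.ι (tH A)
  let jf := Spec.map (CommRingCat.ofHom (Ideal.Quotient.mk (Ideal.span {f})))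
  let jh := Spec.map (CommRingCat.ofHom (Ideal.Quotient.mk (Ideal.span {fh})))
  let ρ : (Ah A) ⧸ Ideal.span {fh} →+* Ah A ⊗[A] (A ⧸ Ideal.span {f}) :=
    Ideal.Quotient.lift _ Algebra.TensorProduct.includeLeftRingHom (fun a ha => by
      obtain ⟨c, rfl⟩ := Ideal.mem_span_singleton'.1 ha
      rw [map_mul, mul_eq_zero_of_right]
      show fh ⊗ₜ[A] (1 : A ⧸ Ideal.span {f}) = 0
      rw [show fh = f • (1 : Ah A) from Algebra.algebraMap_eq_smul_one f, TensorProduct.smul_tmul,
        show f • (1 : A ⧸ Ideal.span {f}) = 0 by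
          rw [← Algebra.algebraMap_eq_smul_one]
          exact Ideal.Quotient.eq_zero_iff_mem.2 (Ideal.mem_span_singleton_self f), TensorProduct.tmul_zero])
  let k : pullback qU (r0 A f) ⟶ Spec (CommRingCat.of ((Ah A) ⧸ Ideal.span {fh})) :=
    pullback.lift (f := tH A) (g := Spec.map (CommRingCat.ofHom (algebraMap A (A ⧸ Ideal.span {f}))))
      (r0' A f ≫ sU) (pullback.snd qU (r0 A f) ≫ pullback.snd U.ι jf) (by
        rw [Category.assoc, ← pullback.condition (f := U.ι) (g := tH A), ← Category.assoc,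
          pullback.condition (f := qU) (g := r0 A f), Category.assoc, pullback.condition (f := U.ι) (g := jf),
          Category.assoc]
        rfl) ≫ (pullbackSpecIso A (Ah A) (A ⧸ Ideal.span {f})).hom ≫ Spec.map (CommRingCat.ofHom ρ)
  have hk : k ≫ jh = r0' A f ≫ sU := by
    have hρ : Spec.map (CommRingCat.ofHom ρ) ≫ jh = Spec.map (CommRingCat.ofHom
        (Algebra.TensorProduct.includeLeftRingHom (R := A) (A := Ah A) (B := A ⧸ Ideal.span {f}))) := by
      rw [← Spec.map_comp, ← CommRingCat.ofHom_comp, Ideal.Quotient.lift_comp_mk]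
    refine (Category.assoc _ _ _).trans ?_
    refine (congrArg (_ ≫ ·) ((Category.assoc _ _ _).trans ((congrArg (_ ≫ ·) hρ).trans
      (pullbackSpecIso_hom_fst A (Ah A) (A ⧸ Ideal.span {f}))))).trans ?_
    exact pullback.lift_fst _ _ _
  exact ⟨k, hk⟩

/-- Full faithfulness over the completion, no henselian hypothesis. -/
theorem fullyFaithful_r0'_of_torsion (hf : f ∈ IsLocalRing.maximalIdeal A)
    (h1 : ∃ n : ℕ, ∀ x : LocCoh.H (IsLocalRing.maximalIdeal A) 1 A, (f ^ n) • x = 0)
    (h2 : ∃ n : ℕ, ∀ x : LocCoh.H (IsLocalRing.maximalIdeal A) 2 A, (f ^ n) • x = 0) :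
    (FEt.restrict (r0' A f)).Full ∧ (FEt.restrict (r0' A f)).Faithful := by
  let fh := algebraMap A (Ah A) f
  haveI := isAdicComplete_span A f hf
  have hfh : fh ∈ IsLocalRing.maximalIdeal (Ah A) := by
    rw [maximalIdeal_Ah]; exact Ideal.mem_map_of_mem _ hf
  have hFF := fullyFaithful_complete (Ah A) fh hfh (torsion_Ah A f 1 h1) (torsion_Ah A f 2 h2)
  let U := FEt.puncturedSpec A
  let qU := pullback.fst U.ι (tH A)
  let sU := pullback.snd U.ι (tH A)
  let jf := Spec.map (CommRingCat.ofHom (Ideal.Quotient.mk (Ideal.span {f})))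
  let jh := Spec.map (CommRingCat.ofHom (Ideal.Quotient.mk (Ideal.span {fh})))
  haveI : IsClosedImmersion jf := IsClosedImmersion.spec_of_surjective _ Ideal.Quotient.mk_surjective
  haveI : IsClosedImmersion jh := IsClosedImmersion.spec_of_surjective _ Ideal.Quotient.mk_surjective
  haveI : IsClosedImmersion (r0 A f) := MorphismProperty.pullback_fst (P := @IsClosedImmersion) _ _ inferInstance
  haveI : IsClosedImmersion (r0' A f) := MorphismProperty.pullback_fst (P := @IsClosedImmersion) _ _ inferInstance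
  haveI : IsClosedImmersion (r0 (Ah A) fh) :=
    MorphismProperty.pullback_fst (P := @IsClosedImmersion) _ _ inferInstance
  have hrange : Set.range sU = Set.range (FEt.puncturedSpec (Ah A)).ι := by
    rw [Scheme.Pullback.range_snd, Scheme.Opens.range_ι, Scheme.Opens.range_ι, ← preimage_puncturedSpec]
    rfl
  let e2 := IsOpenImmersion.isoOfRangeEq sU (FEt.puncturedSpec (Ah A)).ι hrange
  have he2 : e2.hom ≫ (FEt.puncturedSpec (Ah A)).ι = sU := IsOpenImmersion.isoOfRangeEq_hom_fac _ _ _
  have he2' : e2.inv ≫ sU = (FEt.puncturedSpec (Ah A)).ι := by rw [← he2, e2.inv_hom_id_assoc]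
  obtain ⟨k, hk⟩ : ∃ k : pullback qU (r0 A f) ⟶ Spec (CommRingCat.of ((Ah A) ⧸ Ideal.span {fh})),
      k ≫ jh = r0' A f ≫ sU := exists_toQuotient A f
  let e1 : pullback qU (r0 A f) ⟶ pullback (FEt.puncturedSpec (Ah A)).ι jh :=
    pullback.lift (r0' A f ≫ e2.hom) k (by rw [Category.assoc, he2, hk])
  have he1 : e1 ≫ r0 (Ah A) fh = r0' A f ≫ e2.hom := pullback.lift_fst _ _ _
  let σ : A ⧸ Ideal.span {f} →+* (Ah A) ⧸ Ideal.span {fh} :=
    Ideal.quotientMap _ (algebraMap A (Ah A)) (Ideal.span_le.2 (Set.singleton_subset_iff.2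
      (Ideal.mem_span_singleton_self fh)))
  have hσ : Spec.map (CommRingCat.ofHom σ) ≫ jf = jh ≫ tH A := by
    rw [← Spec.map_comp, ← Spec.map_comp, ← CommRingCat.ofHom_comp, ← CommRingCat.ofHom_comp,
      Ideal.quotientMap_comp_mk]
  let m : pullback (FEt.puncturedSpec (Ah A)).ι jh ⟶ pullback qU (r0 A f) :=
    pullback.lift (r0 (Ah A) fh ≫ e2.inv)
      (pullback.lift (r0 (Ah A) fh ≫ e2.inv ≫ qU) (pullback.snd _ jh ≫ Spec.map (CommRingCat.ofHom σ)) (by
        simp only [Category.assoc]
        rw [hσ, pullback.condition (f := U.ι) (g := tH A), ← Category.assoc e2.inv, he2', ← Category.assoc,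
          ← Category.assoc, pullback.condition]))
      (by rw [pullback.lift_fst, Category.assoc])
  have hm : m ≫ r0' A f = r0 (Ah A) fh ≫ e2.inv := pullback.lift_fst _ _ _
  haveI : IsIso e1 := ⟨m, by
    rw [← cancel_mono (r0' A f), Category.assoc, hm, ← Category.assoc, he1, Category.assoc, e2.hom_inv_id,
      Category.comp_id, Category.id_comp], by
    rw [← cancel_mono (r0 (Ah A) fh), Category.assoc, he1, ← Category.assoc, hm, Category.assoc, e2.inv_hom_id,
      Category.comp_id, Category.id_comp]⟩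
  exact fullyFaithful_of_comm e1 e2.hom he1 hFF

theorem fullyFaithful_of_torsion (hf : f ∈ IsLocalRing.maximalIdeal A)
    (h1 : ∃ n : ℕ, ∀ x : LocCoh.H (IsLocalRing.maximalIdeal A) 1 A, (f ^ n) • x = 0)
    (h2 : ∃ n : ℕ, ∀ x : LocCoh.H (IsLocalRing.maximalIdeal A) 2 A, (f ^ n) • x = 0)
    [HenselianRing A (Ideal.span {f})] :
    (FEt.restrict (r0 A f)).Full ∧ (FEt.restrict (r0 A f)).Faithful := by
  exact fullyFaithful_descend A f hf (fullyFaithful_r0'_of_torsion A f hf h1 h2)

end Groth.Agent.HyperFEt
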